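import Groth.Agent.GrpSchLib.Component
import Groth.Prelude.Def_Red
/-!
The components of a group scheme over an Artinian local ring.
-/

set_option backward.isDefEq.respectTransparency false
set_option backward.isDefEq.respectTransparency.types false
set_option linter.style.haveILetI false

universe u

open CategoryTheory CategoryTheory.Limits MonoidalCategory CartesianMonoidalCategory MonObj AlgebraicGeometry

noncomputable section

namespace Groth.Agent.ArtGrpLib

open GrpSchLib (idObj idIncl idComp actMap unitPt invM)

theorem isOpen_connectedComponent {X : Scheme.{u}} [IsLocallyNoetherian X] (x : X) :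
    IsOpen (connectedComponent x) := by
  refine isOpen_iff_forall_mem_open.mpr fun y hy => ?_
  obtain ⟨U, hU, hyU, -⟩ := exists_isAffineOpen_mem_and_subset (X := X) (x := y) (U := ⊤) trivial
  haveI : IsAffine (U : Scheme) := hU
  haveI : IsNoetherian (U : Scheme) := {}
  have hfin := TopologicalSpace.NoetherianSpace.finite_irreducibleComponents (α := ↥(U : Scheme))
  let y' : ↥(U : Scheme) := ⟨y, hyU⟩
  have hopen : IsOpen (connectedComponent y') := by
    have : (connectedComponent y')ᶜ =
        ⋃ z ∈ {z ∈ irreducibleComponents ↥(U : Scheme) | ¬ z ⊆ connectedComponent y'}, z := by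
      ext w
      simp only [Set.mem_compl_iff, Set.mem_iUnion, Set.mem_ofPred_eq, exists_prop]
      constructor
      · intro hw
        exact ⟨irreducibleComponent w, ⟨irreducibleComponent_mem_irreducibleComponents w,
          fun h => hw (h mem_irreducibleComponent)⟩, mem_irreducibleComponent⟩
      · rintro ⟨z, ⟨hz, hn⟩, hwz⟩ hwc
        exact hn ((connectedComponent_eq hwc).symm ▸ hz.1.isConnected.subset_connectedComponent hwz)
    rw [← isClosed_compl_iff, this]
    exact (hfin.subset fun z hz => hz.1).isClosed_biUnion fun z hz =>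
      isClosed_of_mem_irreducibleComponents z hz.1
  refine ⟨U.ι '' connectedComponent y', ?_, U.ι.isOpenEmbedding.isOpenMap _ hopen,
    y', mem_connectedComponent, rfl⟩
  rw [connectedComponent_eq hy]
  exact U.ι.continuous.image_connectedComponent_subset y'

variable (A : Type u) [CommRing A] [IsArtinianRing A] [IsLocalRing A]

/-- The inclusion of the closed point of the base. -/
abbrev jRed : Spec (CommRingCat.of (IsLocalRing.ResidueField A)) ⟶ Spec (CommRingCat.of A) :=
  Spec.map (CommRingCat.ofHom (IsLocalRing.residue A))

instance isClosedImmersion_jRed : IsClosedImmersion (jRed A) :=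
  IsClosedImmersion.spec_of_surjective _ Ideal.Quotient.mk_surjective

instance subsingleton_spec : Subsingleton ↥(Spec (CommRingCat.of A)) :=
  inferInstanceAs (Subsingleton (PrimeSpectrum A))

instance surjective_jRed : Surjective (jRed A) :=
  ⟨fun _ => ⟨IsLocalRing.closedPoint (IsLocalRing.ResidueField A), Subsingleton.elim _ _⟩⟩

instance universallyOpen_jRed : UniversallyOpen (jRed A) := by
  rw [UniversallyOpen.eq]
  intro X' Y' i₁ i₂ f' hf
  haveI : IsClosedImmersion f' := MorphismProperty.of_isPullback hf.flip inferInstance
  haveI : Surjective f' := MorphismProperty.of_isPullback hf.flip inferInstance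
  exact (f'.isEmbedding.toHomeomorphOfSurjective f'.surjective).isOpenMap

variable {A}

/-- Reduction to the closed point. -/
abbrev red (G : Over (Spec (CommRingCat.of A))) : Over (Spec (CommRingCat.of (IsLocalRing.ResidueField A))) :=
  Red.bc (jRed A) G

/-- The projection from the reduction. -/
abbrev redPr (G : Over (Spec (CommRingCat.of A))) : (red G).left ⟶ G.left := pullback.fst G.hom (jRed A)

instance (G : Over (Spec (CommRingCat.of A))) : IsClosedImmersion (redPr G) :=
  MorphismProperty.of_isPullback (P := @IsClosedImmersion) (IsPullback.of_hasPullback G.hom (jRed A)).flip inferInstance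

instance (G : Over (Spec (CommRingCat.of A))) : Surjective (redPr G) :=
  MorphismProperty.of_isPullback (P := @Surjective) (IsPullback.of_hasPullback G.hom (jRed A)).flip inferInstance

/-- The reduction has the same space. -/
def redHomeo (G : Over (Spec (CommRingCat.of A))) : ↥(red G).left ≃ₜ ↥G.left :=
  (redPr G).isEmbedding.toHomeomorphOfSurjective (redPr G).surjective

theorem redPr_map {Z G : Over (Spec (CommRingCat.of A))} (f : Z ⟶ G) (z : ↥(red Z).left) :
    redPr G (((Over.pullback (jRed A)).map f).left z) = f.left (redPr Z z) := by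
  rw [← Scheme.Hom.comp_apply, ← Scheme.Hom.comp_apply]
  rw [show ((Over.pullback (jRed A)).map f).left ≫ redPr G = redPr Z ≫ f.left from pullback.lift_fst _ _ _]

theorem image_connectedComponent_redPr (G : Over (Spec (CommRingCat.of A))) (x : ↥(red G).left) :
    redPr G '' connectedComponent x = connectedComponent (redPr G x) := by
  refine ((redPr G).continuous.image_connectedComponent_subset x).antisymm fun y hy => ?_
  refine ⟨(redHomeo G).symm y, ?_, (redHomeo G).apply_symm_apply y⟩
  have h := (redHomeo G).symm.continuous.image_connectedComponent_subset (redPr G x) ⟨y, hy, rfl⟩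
  rwa [show (redHomeo G).symm (redPr G x) = x from (redHomeo G).symm_apply_apply x] at h

variable (G : Over (Spec (CommRingCat.of A))) [GrpObj G]

/-- The unit point. -/
abbrev onePt : G.left := η[G].left (IsLocalRing.closedPoint A)

theorem one_apply {Z : Over (Spec (CommRingCat.of A))} (z : Z.left) : (1 : Z ⟶ G).left z = onePt G := by
  rw [Hom.one_def, Over.comp_left, Scheme.Hom.comp_apply]
  exact congrArg η[G].left (Subsingleton.elim (α := PrimeSpectrum A) _ _)

theorem redPr_unitPt : redPr G (unitPt (red G)) = onePt G := by
  obtain ⟨z, -⟩ := (redPr (𝟙_ (Over (Spec (CommRingCat.of A))))).surjective (IsLocalRing.closedPoint A)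
  have h := redPr_map (1 : 𝟙_ (Over (Spec (CommRingCat.of A))) ⟶ G) z
  rw [Functor.map_one, GrpSchLib.one_apply, one_apply] at h
  exact h

variable [LocallyOfFiniteType G.hom]

instance locallyOfFiniteType_red : LocallyOfFiniteType (red G).hom :=
  inferInstanceAs (LocallyOfFiniteType (pullback.snd G.hom (jRed A)))

omit [LocallyOfFiniteType G.hom] in
theorem isIrreducible_component (x : G.left) : IsIrreducible (connectedComponent x) := by
  obtain ⟨x, rfl⟩ := (redPr G).surjective x
  rw [← image_connectedComponent_redPr, GrpSchLib.connectedComponent_eq]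
  exact isIrreducible_irreducibleComponent.image _ (redPr G).continuous.continuousOn

omit [LocallyOfFiniteType G.hom] in
theorem isCompact_component (x : G.left) : IsCompact (connectedComponent x) := by
  obtain ⟨x, rfl⟩ := (redPr G).surjective x
  rw [← image_connectedComponent_redPr]
  refine IsCompact.image ?_ (redPr G).continuous
  obtain ⟨V, hV, hxV, -⟩ := exists_isAffineOpen_mem_and_subset (X := (red G).left) (x := x) (U := ⊤) trivial
  have hx : x ∈ GrpSchLib.satOpen (red G) (V : Set (red G).left) :=
    (GrpSchLib.mem_satOpen_iff V.2 x).mpr ⟨x, mem_irreducibleComponent, hxV⟩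
  haveI := GrpSchLib.compactSpace_idObj (G := red G)
  haveI : QuasiCompact (snd (idObj (red G)) (red G)).left :=
    MorphismProperty.of_isPullback (P := @QuasiCompact) GrpSchLib.isPullback_fst_snd inferInstance
  have hc : IsCompact (GrpSchLib.satOpen (red G) (V : Set (red G).left)) :=
    ((snd (idObj (red G)) (red G)).left.isCompact_preimage (U := V) hV.isCompact).image
      (actMap (G := red G)).left.continuous
  exact hc.of_isClosed_subset isClosed_connectedComponent
    (isConnected_connectedComponent.isPreconnected.subset_isClopen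
      (GrpSchLib.isClopen_satOpen V.2 hV.isCompact) ⟨x, mem_connectedComponent, hx⟩)

omit [IsLocalRing A] [GrpObj G] in
theorem isOpen_component (x : G.left) : IsOpen (connectedComponent x) :=
  haveI : IsLocallyNoetherian G.left := LocallyOfFiniteType.isLocallyNoetherian G.hom
  isOpen_connectedComponent x

omit [LocallyOfFiniteType G.hom] in
theorem mul_mem_aux {K : Type u} [Field K] {G : Over (Spec (CommRingCat.of K))} [GrpObj G]
    (z : (G ⊗ G).left) (hz : (snd G G).left z ∈ connectedComponent (unitPt G)) :
    (μ[G] : G ⊗ G ⟶ G).left z ∈ connectedComponent ((fst G G).left z) := by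
  let W : G ⊗ G ⟶ G ⊗ G := lift (snd G G ≫ invM G) (fst G G ≫ invM G)
  have hi : ∀ x : G.left, (invM G).left '' connectedComponent x ⊆ connectedComponent ((invM G).left x) :=
    fun x => (invM G).left.continuous.image_connectedComponent_subset x
  have h1 : (fst G G).left (W.left z) ∈ idComp G := by
    have e : (fst G G).left (W.left z) = (invM G).left ((snd G G).left z) := by
      rw [← Scheme.Hom.comp_apply, ← Over.comp_left, lift_fst, Over.comp_left, Scheme.Hom.comp_apply]
    rw [e]
    show _ ∈ irreducibleComponent _
    rw [← GrpSchLib.connectedComponent_eq]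
    have := hi _ ⟨_, hz, rfl⟩
    rwa [GrpSchLib.invM_unitPt] at this
  obtain ⟨p, hp⟩ : W.left z ∈ Set.range (idIncl G ▷ G).left := by
    have hr : W.left z ∈ Set.range (pullback.map (idObj G).hom G.hom G.hom G.hom
        (idIncl G).left (𝟙 _) (𝟙 _) (by simp) (by simp)) := by
      rw [Scheme.Pullback.range_map, GrpSchLib.range_idIncl]
      exact ⟨h1, ⟨_, rfl⟩⟩
    convert! hr using 3
  have h2 := GrpSchLib.actMap_mem p
  have e1 : (actMap (G := G)).left p = (invM G).left ((μ[G] : G ⊗ G ⟶ G).left z) := by
    rw [show (actMap (G := G)) = idIncl G ▷ G ≫ μ[G] from rfl, Over.comp_left, Scheme.Hom.comp_apply, hp,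
      ← Scheme.Hom.comp_apply, ← Scheme.Hom.comp_apply, ← Over.comp_left, ← Over.comp_left]
    suffices h : W ≫ μ[G] = μ[G] ≫ invM G by rw [h]
    show lift (snd G G ≫ invM G) (fst G G ≫ invM G) ≫ μ[G] = μ[G] ≫ invM G
    rw [GrpSchLib.comp_invM, GrpSchLib.comp_invM, GrpSchLib.comp_invM, ← Hom.mul_def, ← mul_inv_rev,
      Hom.mul_def, lift_fst_snd, Category.id_comp]
  have e2 : (snd (idObj G) G).left p = (invM G).left ((fst G G).left z) := by
    rw [show snd (idObj G) G = idIncl G ▷ G ≫ snd G G from (whiskerRight_snd _ _).symm, Over.comp_left,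
      Scheme.Hom.comp_apply, hp, ← Scheme.Hom.comp_apply, ← Scheme.Hom.comp_apply, ← Over.comp_left,
      ← Over.comp_left, lift_snd]
  rw [← GrpSchLib.connectedComponent_eq, e1, e2] at h2
  have h3 := hi _ ⟨_, h2, rfl⟩
  rwa [GrpSchLib.invM_invM, GrpSchLib.invM_invM] at h3

omit [LocallyOfFiniteType G.hom] in
/-- A component times the unit component lies in the component. -/
theorem mul_mem (z : (G ⊗ G).left) (hz : (snd G G).left z ∈ connectedComponent (onePt G)) :
    (μ[G] : G ⊗ G ⟶ G).left z ∈ connectedComponent ((fst G G).left z) := by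
  obtain ⟨z', rfl⟩ := (redPr (G ⊗ G)).surjective z
  let F := Over.pullback (jRed A)
  let w := (lift (F.map (fst G G)) (F.map (snd G G))).left z'
  have hf : (fst (red G) (red G)).left w = (F.map (fst G G)).left z' := by
    rw [← Scheme.Hom.comp_apply, ← Over.comp_left, lift_fst]
  have hs : (snd (red G) (red G)).left w = (F.map (snd G G)).left z' := by
    rw [← Scheme.Hom.comp_apply, ← Over.comp_left, lift_snd]
  have hm : (μ[red G] : red G ⊗ red G ⟶ red G).left w = (F.map μ[G]).left z' := by
    rw [← Scheme.Hom.comp_apply, ← Over.comp_left, ← Hom.mul_def, ← Functor.map_mul, Hom.mul_def, lift_fst_snd,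
      Category.id_comp]
  rw [← redPr_map, ← redPr_map, ← image_connectedComponent_redPr]
  rw [← redPr_map, ← redPr_unitPt, ← image_connectedComponent_redPr] at hz
  refine ⟨_, ?_, congrArg (redPr G) hm⟩
  obtain ⟨y, hy, hye⟩ := hz
  have hy' := (redPr G).isEmbedding.injective hye
  subst hy'
  have h := mul_mem_aux (G := red G) w (by rw [hs]; exact hy)
  rwa [hf] at h

end Groth.Agent.ArtGrpLib
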