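import Mathlib
import Groth.Agent.TorsorLift.Descent
/-!
Degree one Amitsur exactness for a square zero thickening of a faithfully flat descent datum of rings.
-/

set_option autoImplicit false
set_option linter.style.haveILetI false

universe u

open TensorProduct

namespace Groth.Agent.ArtGrpLib

variable {C D B₁ : Type u} [CommRing C] [CommRing D] [CommRing B₁]
variable {J : Ideal C} [Algebra B₁ (C ⧸ J)]

local notation "q" => Ideal.Quotient.mk J
local notation "P" => (C ⧸ J) ⊗[B₁] (C ⧸ J)

instance smulCommClass_quot : SMulCommClass B₁ C (C ⧸ J) :=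
  ⟨fun b c x => by
    obtain ⟨y, rfl⟩ := Ideal.Quotient.mk_surjective x
    rw [Algebra.smul_def (A := C ⧸ J) b, Algebra.smul_def (A := C ⧸ J) c,
      Algebra.smul_def (A := C ⧸ J) c, Algebra.smul_def (A := C ⧸ J) b]
    ring⟩

/-- Recovering a tensor over the quotient base. -/
theorem exists_lambda {M D' : Type u} [AddCommGroup M] [Module C M] [Module (C ⧸ J) M] [IsScalarTower C (C ⧸ J) M]
    [Module B₁ M] [IsScalarTower B₁ (C ⧸ J) M] [CommRing D'] [Algebra C D'] (π : D' →+* P)
    (hπ : ∀ c, π (algebraMap C D' c) = q c ⊗ₜ[B₁] (1 : C ⧸ J)) :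
    ∃ lam : M ⊗[C] D' →+ (C ⧸ J) ⊗[B₁] M, ∀ (e : M) (d : D') (x y : C ⧸ J), π d = x ⊗ₜ y →
      lam (e ⊗ₜ d) = y ⊗ₜ (x • e) := by
  let act : M → P →ₗ[B₁] (C ⧸ J) ⊗[B₁] M := fun e =>
    TensorProduct.map LinearMap.id ((LinearMap.toSpanSingleton (C ⧸ J) M e).restrictScalars B₁) ∘ₗ
      (TensorProduct.comm B₁ (C ⧸ J) (C ⧸ J)).toLinearMap
  have hact : ∀ e x y, act e (x ⊗ₜ y) = y ⊗ₜ (x • e) := fun e x y => rfl
  have hadd : ∀ e e' z, act (e + e') z = act e z + act e' z := by
    intro e e' z
    induction z using TensorProduct.induction_on with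
    | zero => simp
    | tmul x y => rw [hact, hact, hact, smul_add, TensorProduct.tmul_add]
    | add a b ha hb => rw [map_add, map_add, map_add, ha, hb]; abel
  let f : M →+ D' →+ (C ⧸ J) ⊗[B₁] M := AddMonoidHom.mk'
    (fun e => AddMonoidHom.mk' (fun d => act e (π d)) (fun a b => by rw [map_add, map_add]))
    (fun e e' => AddMonoidHom.ext fun d => hadd e e' (π d))
  refine ⟨TensorProduct.liftAddHom f fun c e d => ?_, fun e d x y h => ?_⟩
  · show act (c • e) (π d) = act e (π (c • d))
    rw [Algebra.smul_def c d, map_mul, hπ]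
    generalize π d = z
    induction z using TensorProduct.induction_on with
    | zero => simp
    | tmul x y =>
      rw [hact, Algebra.TensorProduct.tmul_mul_tmul, _root_.one_mul, hact, ← IsScalarTower.algebraMap_smul (C ⧸ J) c e,
        smul_smul, Ideal.Quotient.algebraMap_eq, _root_.mul_comm x]
    | add a b ha hb => rw [map_add, mul_add, map_add, ha, hb]
  · show act e (π d) = _
    rw [h, hact]

/-- The pushout of two ring maps, with the injectivity given by flatness. -/
theorem exists_double {D₀ D' M : Type u} [CommRing D₀] [CommRing D'] [Algebra C D'] [Module.Flat C D']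
    (t : C →+* D₀) [AddCommGroup M] [Module C M] (ι : M →+ D₀) (hι : ∀ c m, ι (c • m) = t c * ι m)
    (hinj : Function.Injective ι) :
    ∃ (E : Type u) (_ : CommRing E) (a : D₀ →+* E) (b : D' →+* E), a.comp t = b.comp (algebraMap C D') ∧
      (∀ (T : Type u) [CommRing T] (f : D₀ →+* T) (g : D' →+* T), f.comp t = g.comp (algebraMap C D') →
        ∃ h : E →+* T, h.comp a = f ∧ h.comp b = g) ∧
      ∃ ιE : M ⊗[C] D' →+ E, Function.Injective ιE ∧ ∀ m d, ιE (m ⊗ₜ d) = a (ι m) * b d := by
  letI := t.toAlgebra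
  let ιl : M →ₗ[C] D₀ := { ι with map_smul' := fun c m => by simp [hι, Algebra.smul_def, RingHom.algebraMap_toAlgebra] }
  refine ⟨D₀ ⊗[C] D', inferInstance, Algebra.TensorProduct.includeLeftRingHom,
    Algebra.TensorProduct.includeRight.toRingHom, ?_, fun T _ f g hfg => ?_,
    (ιl.rTensor D').toAddMonoidHom, Module.Flat.rTensor_preserves_injective_linearMap ιl hinj, fun m d => ?_⟩
  · ext c
    exact ((Algebra.TensorProduct.includeLeft (R := C) (S := C) (A := D₀) (B := D')).commutes c).trans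
      ((Algebra.TensorProduct.includeRight (R := C) (A := D₀) (B := D')).commutes c).symm
  · letI := (f.comp t).toAlgebra
    let fA : D₀ →ₐ[C] T := { f with commutes' := fun c => rfl }
    let gA : D' →ₐ[C] T := { g with commutes' := fun c => (RingHom.congr_fun hfg c).symm }
    refine ⟨(Algebra.TensorProduct.lift fA gA fun _ _ => Commute.all _ _).toRingHom, ?_, ?_⟩
    · ext x; simp [fA]
    · ext x; simp [gA]
  · show ι m ⊗ₜ[C] d = (ι m ⊗ₜ[C] (1 : D')) * ((1 : D₀) ⊗ₜ[C] d)
    rw [Algebra.TensorProduct.tmul_mul_tmul, _root_.mul_one, _root_.one_mul]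

variable [Algebra C D] (t : C →+* D) (π : D →+* (C ⧸ J) ⊗[B₁] (C ⧸ J))

local notation "s" => algebraMap C D

/-- The hypotheses on a square zero thickening of a descent datum. -/
structure SqDatum {C D B₁ : Type u} [CommRing C] [CommRing D] [CommRing B₁] {J : Ideal C} [Algebra B₁ (C ⧸ J)]
    [Algebra C D] (t : C →+* D) (π : D →+* (C ⧸ J) ⊗[B₁] (C ⧸ J)) : Prop where
  sq : ∀ i ∈ J, ∀ j ∈ J, i * j = 0
  map_eq : J.map (algebraMap C D) = J.map t
  flat : Module.Flat C D
  π_s : ∀ c, π (algebraMap C D c) = Ideal.Quotient.mk J c ⊗ₜ[B₁] (1 : C ⧸ J)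
  π_t : ∀ c, π (t c) = (1 : C ⧸ J) ⊗ₜ[B₁] Ideal.Quotient.mk J c
  π_surj : Function.Surjective π
  π_ker : RingHom.ker π = J.map (algebraMap C D)
  ext_hom : ∀ (T : Type u) [CommRing T] (f g : D →+* T), f.comp (algebraMap C D) = g.comp (algebraMap C D) →
    f.comp t = g.comp t → f = g
  diag : ∃ ε : D →+* C, ε.comp (algebraMap C D) = RingHom.id C ∧ ε.comp t = RingHom.id C
  trans : ∀ (T : Type u) [CommRing T] (a b : D →+* T), a.comp t = b.comp (algebraMap C D) →
    ∃ c : D →+* T, c.comp (algebraMap C D) = a.comp (algebraMap C D) ∧ c.comp t = b.comp t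

variable {t π} (H : SqDatum (B₁ := B₁) (J := J) t π)
include H

theorem SqDatum.mul_eq_zero {a b : D} (ha : a ∈ J.map s) (hb : b ∈ J.map s) : a * b = 0 := by
  have h : J.map s * J.map s ≤ ⊥ := by
    rw [← Ideal.map_mul, show J * J = ⊥ from eq_bot_iff.2 (Ideal.mul_le.2 fun i hi j hj => by
      rw [H.sq i hi j hj]; exact zero_mem _), Ideal.map_bot]
  exact h (Ideal.mul_mem_mul ha hb)

theorem SqDatum.t_mem {j : C} (hj : j ∈ J) : t j ∈ J.map s := H.map_eq ▸ Ideal.mem_map_of_mem t hj

theorem SqDatum.mk_eq {c c' : C} (h : q c = q c') {x : D} (hx : x ∈ J.map s) : t c * x = t c' * x := by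
  rw [← sub_eq_zero, ← sub_mul, ← map_sub]
  exact H.mul_eq_zero (H.t_mem (Ideal.Quotient.eq.1 h)) hx

/-- Translation between the two actions of the descended base on the square zero part. -/
theorem SqDatum.base_smul {b : B₁} {c : C} (hc : q c = algebraMap B₁ (C ⧸ J) b) {x : D} (hx : x ∈ J.map s) :
    t c * x = s c * x := by
  rw [← sub_eq_zero, ← sub_mul]
  refine H.mul_eq_zero ?_ hx
  rw [← H.π_ker, RingHom.mem_ker, map_sub, H.π_s, H.π_t, hc, sub_eq_zero, Algebra.algebraMap_eq_smul_one,
    TensorProduct.tmul_smul, TensorProduct.smul_tmul']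

theorem SqDatum.exists_omega {M : Type u} [AddCommGroup M] [Module C M] [Module (C ⧸ J) M]
    [IsScalarTower C (C ⧸ J) M] [Module B₁ M] [IsScalarTower B₁ (C ⧸ J) M] :
    ∃ ω : (C ⧸ J) ⊗[B₁] M →+ M ⊗[C] D, Function.Injective ω ∧ ∀ c m, ω (q c ⊗ₜ m) = m ⊗ₜ t c := by
  have hz : ∀ (m : M), ∀ x ∈ J.map s, m ⊗ₜ[C] x = 0 := by
    intro m x hx
    refine Submodule.span_induction (p := fun x _ => ∀ d : D, m ⊗ₜ[C] (d * x) = 0) ?_ (fun d => by simp)
      (fun a b _ _ ha hb d => by rw [mul_add, TensorProduct.tmul_add, ha, hb, add_zero])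
      (fun e a _ ha d => by rw [smul_eq_mul, ← _root_.mul_assoc, ha]) hx 1 |> fun h => by rwa [_root_.one_mul] at h
    rintro _ ⟨j, hj, rfl⟩ d
    rw [_root_.mul_comm, ← Algebra.smul_def, TensorProduct.tmul_smul, TensorProduct.smul_tmul',
      ← IsScalarTower.algebraMap_smul (C ⧸ J) j m, Ideal.Quotient.algebraMap_eq,
      Ideal.Quotient.eq_zero_iff_mem.2 hj, zero_smul, TensorProduct.zero_tmul]
  have hwd : ∀ (c c' : C), q c = q c' → ∀ m : M, m ⊗ₜ[C] t c = m ⊗ₜ[C] t c' := fun c c' h m => by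
    rw [← sub_eq_zero, ← TensorProduct.tmul_sub, ← map_sub]
    exact hz m _ (H.t_mem (Ideal.Quotient.eq.1 h))
  have hs : ∀ (x : C ⧸ J) c, q c = x → ∀ m : M, m ⊗ₜ[C] t (Quotient.out x) = m ⊗ₜ[C] t c :=
    fun x c h m => hwd _ _ (by rw [h]; exact Quotient.out_eq x) m
  let f : (C ⧸ J) →+ M →+ M ⊗[C] D := AddMonoidHom.mk'
    (fun x => AddMonoidHom.mk' (fun m => m ⊗ₜ[C] t (Quotient.out x)) (fun a b => TensorProduct.add_tmul _ _ _))
    (fun x y => AddMonoidHom.ext fun m => by
      obtain ⟨a, rfl⟩ := Ideal.Quotient.mk_surjective x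
      obtain ⟨b, rfl⟩ := Ideal.Quotient.mk_surjective y
      show m ⊗ₜ[C] t _ = m ⊗ₜ[C] t _ + m ⊗ₜ[C] t _
      rw [hs _ (a + b) (map_add _ a b) m, hs _ a rfl m, hs _ b rfl m, map_add, TensorProduct.tmul_add])
  have hfc : ∀ c (m : M), f (q c) m = m ⊗ₜ t c := fun c m => hs _ c rfl m
  let ω := TensorProduct.liftAddHom (R := B₁) f fun b x m => by
    obtain ⟨c, rfl⟩ := Ideal.Quotient.mk_surjective x
    obtain ⟨c', hc'⟩ := Ideal.Quotient.mk_surjective (algebraMap B₁ (C ⧸ J) b)
    rw [Algebra.smul_def b (q c), ← hc', ← map_mul, hfc, hfc,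
      show b • m = c' • m by
        rw [← algebraMap_smul (C ⧸ J) b, ← hc']
        exact IsScalarTower.algebraMap_smul (C ⧸ J) c' m,
      TensorProduct.smul_tmul, Algebra.smul_def, map_mul, ← sub_eq_zero, ← TensorProduct.tmul_sub, ← sub_mul]
    refine hz m _ (Ideal.mul_mem_right _ _ ?_)
    rw [← H.π_ker, RingHom.mem_ker, map_sub, H.π_s, H.π_t, hc', sub_eq_zero, Algebra.algebraMap_eq_smul_one,
      TensorProduct.tmul_smul, TensorProduct.smul_tmul']
  obtain ⟨lam, hlam⟩ := exists_lambda (M := M) π H.π_s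
  have hid : ∀ w, lam (ω w) = w := by
    intro w
    induction w using TensorProduct.induction_on with
    | zero => simp
    | tmul x m =>
      obtain ⟨c, rfl⟩ := Ideal.Quotient.mk_surjective x
      rw [show ω (q c ⊗ₜ m) = m ⊗ₜ t c from hfc c m, hlam _ _ _ _ (H.π_t c), one_smul]
    | add a b ha hb => rw [map_add, map_add, ha, hb]
  exact ⟨ω, Function.LeftInverse.injective hid, hfc⟩

variable [Module (C ⧸ J) J] [IsScalarTower C (C ⧸ J) J] [Module B₁ J] [IsScalarTower B₁ (C ⧸ J) J]

omit H [Algebra C D] in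
theorem smul_coe_J (c : C) (j : J) : ((q c • j : J) : C) = c * (j : C) := by
  rw [show q c • j = c • j from IsScalarTower.algebraMap_smul (C ⧸ J) c j]
  rfl

theorem SqDatum.exists_beta : ∃ β : (C ⧸ J) ⊗[B₁] J →+ D, Function.Injective β ∧
    (∀ c j, β (q c ⊗ₜ j) = s (j : C) * t c) ∧ (∀ x, β x ∈ J.map s) ∧ (∀ x ∈ J.map s, ∃ z, β z = x) ∧
    ∀ (c : C) x, β (c • x) = t c * β x := by
  have hf : ∀ c c', q c = q c' → ∀ j : J, s (j : C) * t c = s (j : C) * t c' := fun c c' h j => by
    rw [_root_.mul_comm, H.mk_eq h (Ideal.mem_map_of_mem _ j.2), _root_.mul_comm]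
  have hs : ∀ (x : C ⧸ J) c, q c = x → ∀ j : J, s (j : C) * t (Quotient.out x) = s (j : C) * t c :=
    fun x c h j => hf _ _ (by rw [h]; exact Quotient.out_eq x) j
  let f : (C ⧸ J) →+ J →+ D := AddMonoidHom.mk'
    (fun x => AddMonoidHom.mk' (fun j => s (j : C) * t (Quotient.out x))
      (fun a b => by rw [Submodule.coe_add, map_add, add_mul]))
    (fun x y => AddMonoidHom.ext fun j => by
      obtain ⟨a, rfl⟩ := Ideal.Quotient.mk_surjective x
      obtain ⟨b, rfl⟩ := Ideal.Quotient.mk_surjective y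
      show s (j : C) * t _ = s (j : C) * t _ + s (j : C) * t _
      rw [hs _ (a + b) (map_add _ a b) j, hs _ a rfl j, hs _ b rfl j, map_add, mul_add])
  have hfc : ∀ c (j : J), f (q c) j = s (j : C) * t c := fun c j => hs _ c rfl j
  let β := TensorProduct.liftAddHom (R := B₁) f fun b x j => by
    obtain ⟨c, rfl⟩ := Ideal.Quotient.mk_surjective x
    obtain ⟨c', hc'⟩ := Ideal.Quotient.mk_surjective (algebraMap B₁ (C ⧸ J) b)
    rw [Algebra.smul_def b (q c), ← hc', ← map_mul, hfc, hfc,
      show b • j = q c' • j by rw [hc', algebraMap_smul], smul_coe_J, map_mul, map_mul,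
      _root_.mul_comm (s (j : C)), mul_assoc, H.base_smul hc']
    · ring
    · exact Ideal.mul_mem_left _ _ (Ideal.mem_map_of_mem _ j.2)
  have hβ : ∀ c j, β (q c ⊗ₜ j) = s (j : C) * t c := hfc
  have hmul : ∀ (c : C) x, β (c • x) = t c * β x := fun c x => by
    induction x using TensorProduct.induction_on with
    | zero => simp
    | tmul y j =>
      obtain ⟨a, rfl⟩ := Ideal.Quotient.mk_surjective y
      rw [TensorProduct.smul_tmul', show c • q a = q (c * a) from (map_mul q c a).symm, hβ, hβ, map_mul]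
      ring
    | add a b ha hb => rw [smul_add, map_add, map_add, ha, hb, mul_add]
  refine ⟨β, ?_, hβ, fun x => ?_, ?_, hmul⟩
  · haveI := H.flat
    obtain ⟨ω, hω, hωt⟩ := H.exists_omega (M := J)
    let ι : J →+ C := (Submodule.subtype J).toAddMonoidHom
    obtain ⟨E, _, a, b, hab, -, ιE, hιE, hιEt⟩ := exists_double (D' := D) (RingHom.id C) ι
      (fun c m => rfl) Subtype.val_injective
    have key : ∀ w, ιE (ω w) = b (β w) := by
      intro w
      induction w using TensorProduct.induction_on with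
      | zero => simp
      | tmul x j =>
        obtain ⟨c, rfl⟩ := Ideal.Quotient.mk_surjective x
        rw [hωt, hιEt, hβ, map_mul]
        exact congrArg (· * b (t c)) (RingHom.congr_fun hab (j : C))
      | add x y hx hy => simp only [map_add, hx, hy]
    exact fun w w' h => hω (hιE (by rw [key, key, h]))
  · induction x using TensorProduct.induction_on with
    | zero => simp
    | tmul y j =>
      obtain ⟨c, rfl⟩ := Ideal.Quotient.mk_surjective y
      rw [hβ]
      exact Ideal.mul_mem_right _ _ (Ideal.mem_map_of_mem _ j.2)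
    | add a b ha hb => rw [map_add]; exact add_mem ha hb
  · intro x hx
    suffices h : x ∈ β.range by exact h
    refine Submodule.span_induction (p := fun z _ => z ∈ β.range) ?_ (zero_mem _) (fun _ _ _ _ => add_mem) ?_ hx
    · rintro _ ⟨j, hj, rfl⟩
      exact ⟨q 1 ⊗ₜ ⟨j, hj⟩, by rw [hβ, map_one, _root_.mul_one]⟩
    · rintro d z - ⟨w, rfl⟩
      have key : ∀ p : P, ∃ d', π d' = p ∧ d' * β w ∈ β.range := by
        intro p
        induction p using TensorProduct.induction_on with
        | zero => exact ⟨0, by simp, by simp⟩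
        | add a b ha hb =>
          obtain ⟨d₁, e₁, h₁⟩ := ha
          obtain ⟨d₂, e₂, h₂⟩ := hb
          exact ⟨d₁ + d₂, by rw [map_add, e₁, e₂], by rw [add_mul]; exact add_mem h₁ h₂⟩
        | tmul y y' =>
          obtain ⟨a, rfl⟩ := Ideal.Quotient.mk_surjective y
          obtain ⟨b, rfl⟩ := Ideal.Quotient.mk_surjective y'
          refine ⟨s a * t b, by rw [map_mul, H.π_s, H.π_t, Algebra.TensorProduct.tmul_mul_tmul,
            _root_.mul_one, _root_.one_mul], ?_⟩
          rw [_root_.mul_assoc, ← hmul]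
          generalize b • w = v
          induction v using TensorProduct.induction_on with
          | zero => simp
          | tmul y j =>
            obtain ⟨c, rfl⟩ := Ideal.Quotient.mk_surjective y
            refine ⟨q c ⊗ₜ (q a • j), ?_⟩
            rw [hβ, hβ, smul_coe_J, map_mul]
            ring
          | add a b ha hb => rw [map_add, mul_add]; exact add_mem ha hb
      obtain ⟨d', hd', h'⟩ := key (π d)
      rw [smul_eq_mul]
      have hw : β w ∈ J.map s := by
        clear h' hd' key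
        induction w using TensorProduct.induction_on with
        | zero => simp
        | tmul y j =>
          obtain ⟨c, rfl⟩ := Ideal.Quotient.mk_surjective y
          rw [hβ]
          exact Ideal.mul_mem_right _ _ (Ideal.mem_map_of_mem _ j.2)
        | add a b ha hb => rw [map_add]; exact add_mem ha hb
      have : d * β w = d' * β w := by
        rw [← sub_eq_zero, ← sub_mul]
        refine H.mul_eq_zero ?_ hw
        rw [← H.π_ker, RingHom.mem_ker, map_sub, hd', sub_self]
      rwa [this]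

/-- Degree zero and one of the Amitsur complex of the square zero part. -/
theorem SqDatum.exists_coaction [Module.FaithfullyFlat B₁ (C ⧸ J)] :
    ∃ d : J →ₗ[B₁] (C ⧸ J) ⊗[B₁] J,
      Function.Bijective (LinearMap.liftBaseChange (C ⧸ J) (LinearMap.ker d).subtype) ∧
      (∀ j : J, d j = 0 ↔ t (j : C) = s (j : C)) ∧
      ∀ (c : C), t c - s c ∈ J.map s → ∃ j : J, t c - s c = t (j : C) - s (j : C) := by
  obtain ⟨β, hβi, hβ, hβm, hβs, hβmul⟩ := H.exists_beta
  choose σ hσ using fun j : J => hβs (t (j : C) - s (j : C)) (sub_mem (H.t_mem j.2) (Ideal.mem_map_of_mem _ j.2))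
  have hσlin : ∀ (b : B₁) (j : J), σ (b • j) = b • σ j := fun b j => by
    obtain ⟨c, hc⟩ := Ideal.Quotient.mk_surjective (algebraMap B₁ (C ⧸ J) b)
    refine hβi ?_
    rw [hσ, show b • j = q c • j by rw [hc, algebraMap_smul], smul_coe_J, map_mul, map_mul,
      ← H.base_smul hc (Ideal.mem_map_of_mem _ j.2), ← mul_sub, ← hσ, ← hβmul,
      ← algebraMap_smul (C ⧸ J) b (σ j), ← hc]
    rfl
  let d : J →ₗ[B₁] (C ⧸ J) ⊗[B₁] J :=
    { toFun := σ
      map_add' := fun i j => hβi (by simp only [map_add, hσ, Submodule.coe_add]; abel)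
      map_smul' := hσlin }
  have hd : ∀ j : J, d j = 0 ↔ t (j : C) = s (j : C) := fun j => by
    rw [← hβi.eq_iff, map_zero, show β (d j) = t (j : C) - s (j : C) from hσ j, sub_eq_zero]
  obtain ⟨ε, hεs, hεt⟩ := H.diag
  haveI := H.flat
  obtain ⟨ω, hω, hωt⟩ := H.exists_omega (M := (C ⧸ J) ⊗[B₁] J)
  obtain ⟨E, _, a, b, hab, hlift, ιE, hιE, hιEt⟩ := exists_double (D' := D) t β (fun c m => hβmul c m) hβi
  obtain ⟨p, hps, hpt⟩ := H.trans E a b hab
  have hab' : ∀ c, a (t c) = b (s c) := fun c => RingHom.congr_fun hab c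
  have hps' : ∀ c, p (s c) = a (s c) := fun c => RingHom.congr_fun hps c
  have hpt' : ∀ c, p (t c) = b (t c) := fun c => RingHom.congr_fun hpt c
  have key : ∀ w, ιE (ω (LinearMap.lTensor (C ⧸ J) d w)) = b (β w) - p (β w) := by
    intro w
    induction w using TensorProduct.induction_on with
    | zero => simp
    | tmul x j =>
      obtain ⟨c, rfl⟩ := Ideal.Quotient.mk_surjective x
      rw [LinearMap.lTensor_tmul, hωt, hιEt, show β (d j) = t (j : C) - s (j : C) from hσ j, hβ, map_sub,
        sub_mul, map_mul, map_mul, hab', hps', hpt']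
    | add x y hx hy => simp only [map_add, hx, hy]; abel
  have hinj : ∀ u v, ιE (ω u) = ιE (ω v) → u = v := fun u v h => hω (hιE h)
  have hex := Module.Flat.lTensor_exact (C ⧸ J) d.exact_subtype_ker_map
  have hlb : ∀ w, (Submodule.subtype J ((LinearMap.liftBaseChange (C ⧸ J) (LinearMap.ker d).subtype) w) : C) =
      ε (β (LinearMap.lTensor (C ⧸ J) (LinearMap.ker d).subtype w)) := by
    intro w
    induction w using TensorProduct.induction_on with
    | zero => simp
    | tmul x m =>
      obtain ⟨c, rfl⟩ := Ideal.Quotient.mk_surjective x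
      rw [LinearMap.liftBaseChange_tmul, LinearMap.lTensor_tmul, hβ, map_mul,
        show ε (s ((LinearMap.ker d).subtype m : C)) = (((LinearMap.ker d).subtype m : J) : C) from RingHom.congr_fun hεs _,
        show ε (t c) = c from RingHom.congr_fun hεt _]
      exact (smul_coe_J c _).trans (_root_.mul_comm _ _)
    | add x y hx hy => simp only [map_add, hx, hy]
  refine ⟨d, ⟨?_, ?_⟩, hd, fun c hc => ?_⟩
  · rw [injective_iff_map_eq_zero]
    intro w hw
    refine Module.Flat.lTensor_preserves_injective_linearMap (M := C ⧸ J) (LinearMap.ker d).subtype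
      Subtype.val_injective (hβi ?_)
    rw [map_zero, map_zero]
    set z := LinearMap.lTensor (C ⧸ J) (LinearMap.ker d).subtype w with hz
    have hdz : LinearMap.lTensor (C ⧸ J) d z = 0 := (hex z).2 ⟨w, rfl⟩
    have h0 : b (β z) - p (β z) = 0 := by rw [← key, hdz, map_zero, map_zero]
    obtain ⟨η, hηa, hηb⟩ := hlift D (RingHom.id D) (t.comp ε) (by
      rw [RingHom.comp_assoc, hεs, RingHom.comp_id, RingHom.id_comp])
    have hηp : η.comp p = RingHom.id D := by
      refine H.ext_hom D _ _ ?_ ?_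
      · rw [RingHom.comp_assoc, hps, ← RingHom.comp_assoc, hηa]
      · rw [RingHom.comp_assoc, hpt, ← RingHom.comp_assoc, hηb, RingHom.comp_assoc, hεt, RingHom.comp_id,
          RingHom.id_comp]
    have hεz : ε (β z) = 0 := by rw [hz, ← hlb, hw]; simp
    have h1 := congrArg η h0
    rw [map_sub, map_zero, show η (p (β z)) = β z from RingHom.congr_fun hηp _,
      show η (b (β z)) = t (ε (β z)) from RingHom.congr_fun hηb _, hεz, map_zero, zero_sub, neg_eq_zero] at h1
    exact h1
  · intro j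
    obtain ⟨w, hw⟩ := hβs (t (j : C)) (H.t_mem j.2)
    obtain ⟨y, hy⟩ : w ∈ Set.range (LinearMap.lTensor (C ⧸ J) (LinearMap.ker d).subtype) := by
      refine (hex w).1 (hinj _ 0 ?_)
      rw [key, map_zero, map_zero, hw, hpt', sub_self]
    refine ⟨y, Subtype.ext ((hlb y).trans ?_)⟩
    rw [hy, hw]
    exact RingHom.congr_fun hεt _
  · obtain ⟨z, hz⟩ := hβs _ hc
    obtain ⟨j, hj⟩ := TorsorLift.mem_range_of_one_tmul (S := C ⧸ J) d z ⟨-z, hinj _ _ (by
      rw [key, show (1 : C ⧸ J) = q 1 from (map_one q).symm, hωt, hιEt, map_neg, hz, map_one, map_one]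
      simp only [map_sub, map_neg, hps', hpt', hab', _root_.mul_one]
      abel)⟩
    exact ⟨j, by rw [← hz, ← hj]; exact hσ j⟩

end Groth.Agent.ArtGrpLib
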