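import Groth.Agent.CMSliceLib.Section
/-!
Finite flat quasi-sections through open sets over an Artinian local ring.
-/

set_option backward.isDefEq.respectTransparency false
set_option backward.isDefEq.respectTransparency.types false
set_option linter.style.haveILetI false

universe u

open CategoryTheory AlgebraicGeometry Limits

noncomputable section

namespace Groth.Agent.ArtGrpLib

/-- Every nonempty open of a flat scheme over an Artinian local ring meets a finite flat quasi-section. -/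
theorem exists_quasiSection {A : Type u} [CommRing A] [IsArtinianRing A] [IsLocalRing A]
    (G : Over (Spec (CommRingCat.of A))) [Flat G.hom] [LocallyOfFiniteType G.hom] (O : Set G.left)
    (hO : IsOpen O) (hne : O.Nonempty) :
    ∃ (Q : Over (Spec (CommRingCat.of A))) (j : Q ⟶ G), IsAffine Q.left ∧ IsFinite Q.hom ∧ Flat Q.hom ∧
      LocallyOfFinitePresentation Q.hom ∧ Surjective Q.hom ∧ Set.range j.left ⊆ O := by
  let f := G.hom
  haveI : Subsingleton ↥(Spec (CommRingCat.of A)) := inferInstanceAs (Subsingleton (PrimeSpectrum A))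
  haveI : LocallyOfFinitePresentation f := LocallyOfFinitePresentation.iff_locallyOfFiniteType.mpr inferInstance
  haveI : JacobsonSpace ↥G.left := LocallyOfFiniteType.jacobsonSpace f
  let s : ↥(Spec (CommRingCat.of A)) := IsLocalRing.closedPoint A
  have hr : Function.Surjective (f.fiberι s) := by
    rw [← Set.range_eq_univ, f.range_fiberι]
    exact Set.eq_univ_of_forall fun _ => Subsingleton.elim (α := ↥(Spec (CommRingCat.of A))) _ _
  obtain ⟨z, hzO, hzc⟩ := (CMFlatLib.dense_isCMAt f s).inter_open_nonempty _ (hO.preimage (f.fiberι s).continuous)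
    (hne.preimage hr)
  have hU : IsOpen (O ∩ {x : G.left | MoreMor.IsCMAt f x}) := hO.inter (CMFlatLib.isOpen_isCMAt f)
  obtain ⟨x, ⟨hxO, hxcm⟩, hx⟩ := nonempty_inter_closedPoints (show (O ∩ {x : G.left | MoreMor.IsCMAt f x}).Nonempty
    from ⟨f.fiberι s z, hzO, hzc⟩) hU.isLocallyClosed
  have hcl : IsClosed ({f.asFiber x} : Set ↥(f.fiber (f x))) := by
    have h : ({f.asFiber x} : Set ↥(f.fiber (f x))) = (f.fiberι (f x)) ⁻¹' {x} := by
      ext w
      simp only [Set.mem_singleton_iff, Set.mem_preimage]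
      exact ⟨fun h => h ▸ f.fiberι_asFiber x,
        fun h => (f.fiberι _).isEmbedding.injective (h.trans (f.fiberι_asFiber x).symm)⟩
    rw [h]
    exact (mem_closedPoints_iff.mp hx).preimage (f.fiberι _).continuous
  obtain ⟨V, Z, i, -, ⟨w, hw⟩, hflat, hfp, hqf, -⟩ := CMSliceLib.exists_slice_scheme f x hxcm hcl
  obtain ⟨W, hW, hwW, hWO⟩ := exists_isAffineOpen_mem_and_subset (X := Z) (x := w)
    (U := ⟨(i ≫ V.ι) ⁻¹' O, hO.preimage (i ≫ V.ι).continuous⟩) (show (i ≫ V.ι) w ∈ O by rwa [hw])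
  haveI : IsAffine (W : Scheme) := hW
  haveI := hflat
  haveI := hfp
  haveI := hqf
  let Q : Over (Spec (CommRingCat.of A)) := Over.mk (W.ι ≫ i ≫ V.ι ≫ f)
  haveI : Flat Q.hom := inferInstanceAs (Flat (W.ι ≫ i ≫ V.ι ≫ f))
  haveI : LocallyOfFinitePresentation Q.hom :=
    inferInstanceAs (LocallyOfFinitePresentation (W.ι ≫ i ≫ V.ι ≫ f))
  haveI : LocallyQuasiFinite Q.hom := inferInstanceAs (LocallyQuasiFinite (W.ι ≫ i ≫ V.ι ≫ f))
  haveI : IsAffine Q.left := hW
  haveI : IsFinite Q.hom := IsFinite.of_locallyQuasiFinite Q.hom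
  refine ⟨Q, Over.homMk (W.ι ≫ i ≫ V.ι) (by simp [Q, f]), ‹_›, ‹_›, ‹_›, ‹_›,
    ⟨fun _ => ⟨⟨w, hwW⟩, Subsingleton.elim _ _⟩⟩, ?_⟩
  rintro _ ⟨q, rfl⟩
  exact hWO q.2

end Groth.Agent.ArtGrpLib
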