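import Groth.Agent.ArtGrpLib.CosetSpace
import Groth.Agent.ArtGrpLib.Component
import Groth.Agent.ArtGrpLib.QuasiSection
import Groth.Agent.FpqcDesc.Stalk
import Groth.Agent.FppfSrc.Scheme
/-!
The space of cosets of a flat closed subgroup of a flat group over an Artinian local ring is a scheme.
-/

set_option backward.isDefEq.respectTransparency false
set_option backward.isDefEq.respectTransparency.types false
set_option linter.style.haveILetI false

universe u

open CategoryTheory CategoryTheory.Limits MonoidalCategory CartesianMonoidalCategory MonObj AlgebraicGeometry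
open TopologicalSpace (NoetherianSpace)

noncomputable section

namespace Groth.Agent.ArtGrpLib

open _root_.AlgSp Groth.Agent.ASp
open Groth.Agent.GrpQuotLib (exists_open_scheme exists_scheme_of_finite_chart isOpen_range_map isClosedMap_map_of_finite
  mem_of_dense_of_isMaxPt)

theorem isSeparatedSp_subSp {S : Scheme.{u}} {F : Sp S} (hsep : IsSeparatedSp F) (W : Set (Points F)) :
    IsSeparatedSp (subSp F W) := by
  refine repWith_of_isPullback (f := Limits.diag F) (g' := subι F W) (g := prod.map (subι F W) (subι F W)) ?_ hsep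
  have w : subι F W ≫ Limits.diag F = Limits.diag (subSp F W) ≫ prod.map (subι F W) (subι F W) := by
    apply prod.hom_ext <;> simp [Limits.diag]
  refine IsPullback.of_isLimit' ⟨w⟩ (PullbackCone.IsLimit.mk _ (fun c => c.snd ≫ prod.fst) (fun c => ?_) (fun c => ?_)
    (fun c m _ h2 => ?_))
  · have h := congrArg (· ≫ prod.fst) c.condition
    simpa [Limits.diag] using h.symm
  · have h1 := congrArg (· ≫ prod.fst) c.condition
    have h2 := congrArg (· ≫ prod.snd) c.condition
    simp [Limits.diag] at h1 h2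
    apply prod.hom_ext
    · simp [Limits.diag]
    · rw [← cancel_mono (subι F W)]
      simp [Limits.diag, ← h1, h2]
  · have := congrArg (· ≫ prod.fst) h2
    simpa [Limits.diag] using this

/-- A dense affine open subscheme of a separated space with a noetherian space of points. -/
theorem exists_dense_affine_open {S : Scheme.{u}} [IsAffine S] {F : Sp S} (hF : IsAlgSpace F)
    (hsep : IsSeparatedSp F) [NoetherianSpace (Points F)] :
    ∃ (V : Over S) (c : (yon _).obj V ⟶ F), IsAffine V.left ∧
      RepWith @IsOpenImmersion c ∧ Dense (Set.range (Points.map c)) := by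
  obtain ⟨U, a, _, hae, has⟩ := exists_affine_chart hF
  obtain ⟨R, t, s, sq⟩ := exists_isPullback_yon hae.1 a
  haveI : IsAffine (U ⊗ U).left := inferInstanceAs (IsAffine (pullback U.hom U.hom))
  have sqd := Groth.Agent.Boot.isPullback_diag_kernelPair a sq ((yon _).map (lift t s))
    (q₁ := (yon _).map (fst U U)) (q₂ := (yon _).map (snd U U))
    (by rw [← Functor.map_comp, lift_fst]) (by rw [← Functor.map_comp, lift_snd]) hom_ext_yon_tensor
  haveI : IsClosedImmersion (lift t s).left := hsep.2 _ _ _ sqd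
  haveI : IsAffine R.left := isAffine_of_isAffineHom (lift t s).left
  obtain ⟨M, c, hc, hd⟩ := exists_open_scheme hF hae has sq
  haveI : NoetherianSpace ↥M.left :=
    ((isOpenMap_map_of_repWith (P := @IsOpenImmersion)
      (fun g hg => haveI : IsOpenImmersion g := hg; g.isOpenEmbedding.isOpenMap) hc).comp
        (Points.schemeHomeo M).isOpenMap |> fun ho =>
      (Topology.IsOpenEmbedding.of_continuous_injective_isOpenMap
        ((Points.continuous_map c).comp (Points.schemeHomeo M).continuous)
        ((injective_map_of_repWith (P := @IsOpenImmersion)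
          (fun g hg => haveI : IsOpenImmersion g := hg; g.isOpenEmbedding.injective) hc).comp
            (Points.schemeHomeo M).injective) ho).isInducing.noetherianSpace)
  obtain ⟨W, hW, hWd⟩ := GenSmooth.exists_dense_affine M.left
  let V : Over S := Over.mk (W.ι ≫ M.hom)
  let jV : V ⟶ M := Over.homMk W.ι rfl
  haveI : IsOpenImmersion jV.left := inferInstanceAs (IsOpenImmersion W.ι)
  refine ⟨V, (yon _).map jV ≫ c, hW, repWith_comp (repWith_yon_map (P := @IsOpenImmersion) (g := jV) ‹_›) hc, ?_⟩
  refine dense_iff_inter_open.mpr fun O hO hne => ?_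
  obtain ⟨y, hyO, x, hx⟩ := hd.inter_open_nonempty O hO hne
  obtain ⟨m, rfl⟩ := (Points.schemeHomeo M).surjective x
  subst hx
  obtain ⟨m', hm', hmW⟩ := hWd.inter_open_nonempty _
    (hO.preimage ((Points.continuous_map c).comp (Points.schemeHomeo M).continuous)) ⟨m, hyO⟩
  refine ⟨_, hm', Points.schemeHomeo V ⟨m', hmW⟩, ?_⟩
  rw [Points.map_comp]
  exact congrArg _ (Points.map_yon_map_apply _ _)

variable {A : Type u} [CommRing A] [IsArtinianRing A] [IsLocalRing A]

variable {H G : Over (Spec (CommRingCat.of A))} [GrpObj H] [GrpObj G]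

theorem isOpenMap_ofPt {F : Sp (Spec (CommRingCat.of A))} (p : (yon _).obj G ⟶ F) (hpf : RepWith @Flat p)
    (hpl : RepWith @LocallyOfFinitePresentation p) : IsOpenMap (Points.ofPt p) := by
  have h := isOpenMap_map_of_repWith (P := @Flat ⊓ @LocallyOfFinitePresentation)
    (fun g hg => haveI := hg.1; haveI := hg.2; g.isOpenMap) (f := p)
    ⟨hpf.1, fun {T W} b f s sq => ⟨hpf.2 b f s sq, hpl.2 b f s sq⟩⟩
  rw [show Points.ofPt p = Points.map p ∘ Points.schemeHomeo G from funext fun v => Points.ofPt_eq_map_ofScheme p v]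
  exact h.comp (Points.schemeHomeo G).isOpenMap

/-- An affine open which is dense in the image of a component. -/
theorem exists_component_affine [LocallyOfFiniteType G.hom] {F : Sp (Spec (CommRingCat.of A))}
    (p : (yon _).obj G ⟶ F) (hF : IsAlgSpace F) (hsep : IsSeparatedSp F) (hpf : RepWith @Flat p)
    (hpl : RepWith @LocallyOfFinitePresentation p) (x : G.left) :
    ∃ (V : Over (Spec (CommRingCat.of A))) (c : (yon _).obj V ⟶ F), IsAffine V.left ∧
      RepWith @IsOpenImmersion c ∧
      Points.ofPt p '' connectedComponent x ⊆ closure (Set.range (Points.map c)) := by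
  let C : G.left.Opens := ⟨connectedComponent x, isOpen_component G x⟩
  haveI : CompactSpace ↥(C : Scheme) := isCompact_iff_compactSpace.mp (isCompact_component G x)
  haveI : IsLocallyNoetherian G.left := LocallyOfFiniteType.isLocallyNoetherian G.hom
  haveI : IsNoetherian (C : Scheme) := {}
  let W : Set (Points F) := Points.ofPt p '' connectedComponent x
  have hW : IsOpen W := isOpenMap_ofPt p hpf hpl _ C.2
  have hj := repWith_subι F W hW
  haveI : NoetherianSpace ↥W := by
    have h := TopologicalSpace.NoetherianSpace.range (fun z : ↥(C : Scheme) => Points.ofPt p (C.ι z))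
      ((Points.continuous_ofPt p).comp C.ι.continuous)
    have hr : Set.range (fun z : ↥(C : Scheme) => Points.ofPt p (C.ι z)) = W := by
      rw [show (fun z : ↥(C : Scheme) => Points.ofPt p (C.ι z)) = Points.ofPt p ∘ C.ι from rfl, Set.range_comp,
        Scheme.Opens.range_ι]
      rfl
    rwa [hr] at h
  haveI : NoetherianSpace (Points (subSp F W)) := by
    have ho : IsOpenMap (Points.map (subι F W)) := isOpenMap_map_of_repWith (P := @IsOpenImmersion)
      (fun g hg => haveI : IsOpenImmersion g := hg; g.isOpenEmbedding.isOpenMap) hj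
    have hi := injective_map_of_repWith (P := @IsOpenImmersion)
      (fun g hg => haveI : IsOpenImmersion g := hg; g.isOpenEmbedding.injective) hj
    have he := Topology.IsOpenEmbedding.of_continuous_injective_isOpenMap (Points.continuous_map _) hi ho
    exact (he.isInducing.codRestrict (fun y => (range_map_subι F W).le ⟨y, rfl⟩)).noetherianSpace
  obtain ⟨V, c, hV, hc, hd⟩ := exists_dense_affine_open (isAlgSpace_subSp hF hW) (isSeparatedSp_subSp hsep W)
  refine ⟨V, c ≫ subι F W, hV, repWith_comp hc hj, fun y hy => ?_⟩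
  obtain ⟨y, rfl⟩ := (range_map_subι F W).ge hy
  rw [show Set.range (Points.map (c ≫ subι F W)) = Points.map (subι F W) '' Set.range (Points.map c) by
    rw [← Set.range_comp]
    exact congrArg Set.range (funext fun w => Points.map_comp _ _ _)]
  exact image_closure_subset_closure_image (Points.continuous_map _) ⟨y, hd y, rfl⟩

theorem isPullback_whiskerLeft {S : Scheme.{u}} {B C : Over S} (f : B ⟶ C) (P : Over S) :
    IsPullback (snd P B) (P ◁ f) f (snd P C) :=
  IsPullback.of_isLimit' ⟨(whiskerLeft_snd _ _).symm⟩ (PullbackCone.IsLimit.mk _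
    (fun c => lift (c.snd ≫ fst P C) c.fst) (fun c => lift_snd _ _)
    (fun c => CartesianMonoidalCategory.hom_ext _ _ (by simp) (by simp [c.condition]))
    (fun c m h1 h2 => CartesianMonoidalCategory.hom_ext _ _
      (by simpa using congrArg (· ≫ fst P C) h2) (by simpa using h1)))

set_option maxHeartbeats 800000 in
/-- Near every closed point some quasi-section translates the fibre into a dense open. -/
theorem exists_good_section [LocallyOfFiniteType G.hom] [Flat G.hom] {F : Sp (Spec (CommRingCat.of A))}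
    (p : (yon _).obj G ⟶ F) (hpf : RepWith @Flat p)
    (hpl : RepWith @LocallyOfFinitePresentation p) {V : Set (Points F)} (hV : IsOpen V)
    {x : ↥G.left} (hVd : Points.ofPt p '' connectedComponent x ⊆ closure V) (hx : x ∈ closedPoints ↥G.left) :
    ∃ (Q : Over (Spec (CommRingCat.of A))) (j : Q ⟶ G), IsAffine Q.left ∧ IsFinite Q.hom ∧ Flat Q.hom ∧
      LocallyOfFinitePresentation Q.hom ∧ Surjective Q.hom ∧
      ∀ z : ↥(G ⊗ G).left, (fst G G).left z = x → (snd G G).left z ∈ Set.range j.left →
        Points.ofPt p ((μ[G] : G ⊗ G ⟶ G).left z) ∈ V := by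
  haveI : JacobsonSpace ↥G.left := LocallyOfFiniteType.jacobsonSpace G.hom
  haveI := isClosed_singleton_iff_isClosedImmersion.mp (mem_closedPoints_iff.mp hx)
  let P : Over (Spec (CommRingCat.of A)) := Over.mk (G.left.fromSpecResidueField x ≫ G.hom)
  haveI hPf : IsFinite P.hom := (isFinite_iff_locallyOfFiniteType_of_jacobsonSpace
    (f := G.left.fromSpecResidueField x ≫ G.hom)).mpr inferInstance
  haveI : IsReduced P.left := inferInstanceAs (IsReduced (Spec (G.left.residueField x)))
  haveI : UniversallyOpen P.hom := by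
    haveI : IsClosedImmersion (pullback.fst P.hom (jRed A)) :=
      MorphismProperty.of_isPullback (P := @IsClosedImmersion) (IsPullback.of_hasPullback P.hom (jRed A)).flip inferInstance
    haveI : Surjective (pullback.fst P.hom (jRed A)) :=
      MorphismProperty.of_isPullback (P := @Surjective) (IsPullback.of_hasPullback P.hom (jRed A)).flip inferInstance
    haveI : IsIso (pullback.fst P.hom (jRed A)) := isIso_of_isClosedImmersion_of_surjective _
    haveI : Flat (pullback.snd P.hom (jRed A)) := MonoFibre.flat_to_spec_field (T := red P)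
    haveI : LocallyOfFinitePresentation (pullback.snd P.hom (jRed A)) :=
      LocallyOfFinitePresentation.iff_locallyOfFiniteType.mpr inferInstance
    rw [show P.hom = inv (pullback.fst P.hom (jRed A)) ≫ pullback.snd P.hom (jRed A) ≫ jRed A by
      rw [IsIso.eq_inv_comp, pullback.condition]]
    infer_instance
  let jx : P ⟶ G := Over.homMk (G.left.fromSpecResidueField x) rfl
  let Co : G.left.Opens := ⟨connectedComponent (onePt G), isOpen_component G _⟩
  let Go : Over (Spec (CommRingCat.of A)) := Over.mk (Co.ι ≫ G.hom)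
  let jo : Go ⟶ G := Over.homMk Co.ι rfl
  haveI : IsOpenImmersion jo.left := inferInstanceAs (IsOpenImmersion Co.ι)
  haveI : CompactSpace ↥Go.left := isCompact_iff_compactSpace.mp (isCompact_component G (onePt G))
  haveI : IsLocallyNoetherian G.left := LocallyOfFiniteType.isLocallyNoetherian G.hom
  haveI : IsLocallyNoetherian Go.left := inferInstanceAs (IsLocallyNoetherian (Co : Scheme))
  haveI : IsOpenImmersion (P ◁ jo).left :=
    MorphismProperty.of_isPullback (P := @IsOpenImmersion) (isPullback_left (isPullback_whiskerLeft jo P)) ‹_›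
  haveI : IsFinite (snd P Go).left :=
    MorphismProperty.of_isPullback (P := @IsFinite) GrpSchLib.isPullback_fst_snd hPf
  haveI : IsLocallyNoetherian (P ⊗ Go).left := LocallyOfFiniteType.isLocallyNoetherian (snd P Go).left
  haveI : CompactSpace ↥(P ⊗ Go).left := QuasiCompact.compactSpace_of_compactSpace (snd P Go).left
  haveI : IsNoetherian (P ⊗ Go).left := {}
  let m : P ⊗ Go ⟶ G := (P ◁ jo) ≫ (jx ▷ G) ≫ μ[G]
  have hmo : IsOpenMap m.left := by
    haveI := GrpSchLib.universallyOpen_mulMap (G := G) jx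
    rw [Over.comp_left]
    exact ((P ◁ jo).left ≫ ((jx ▷ G) ≫ μ[G]).left).isOpenMap
  have hmC : ∀ w, m.left w ∈ connectedComponent x := by
    intro w
    let z := ((P ◁ jo) ≫ (jx ▷ G)).left w
    have hz₁ : (fst G G).left z = x := by
      rw [← Scheme.Hom.comp_apply, ← Over.comp_left, Category.assoc, whiskerRight_fst, whiskerLeft_fst_assoc,
        Over.comp_left, Scheme.Hom.comp_apply]
      exact Scheme.fromSpecResidueField_apply x _
    have hz₂ : (snd G G).left z ∈ connectedComponent (onePt G) := by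
      rw [← Scheme.Hom.comp_apply, ← Over.comp_left, Category.assoc, whiskerRight_snd, whiskerLeft_snd,
        Over.comp_left, Scheme.Hom.comp_apply]
      exact ((snd P Go).left w).2
    have h := mul_mem G z hz₂
    rwa [hz₁, ← Scheme.Hom.comp_apply, ← Over.comp_left, Category.assoc] at h
  have hcont : Continuous fun z => Points.ofPt p (m.left z) := (Points.continuous_ofPt p).comp m.left.continuous
  let W : Set ↥(P ⊗ Go).left := (fun z => Points.ofPt p (m.left z)) ⁻¹' V
  have hWo : IsOpen W := hV.preimage hcont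
  have hWd : Dense W := by
    refine dense_iff_inter_open.mpr fun O hO ⟨w, hw⟩ => ?_
    obtain ⟨_, hyV, w', hw', rfl⟩ : (V ∩ (fun z => Points.ofPt p (m.left z)) '' O).Nonempty := by
      rw [Set.inter_comm]
      exact mem_closure_iff.mp (hVd ⟨_, hmC w, rfl⟩) _ (((isOpenMap_ofPt p hpf hpl).comp hmo) O hO) ⟨w, hw, rfl⟩
    exact ⟨w', hw', hyV⟩
  let B : Set ↥Go.left := ((snd P Go).left '' Wᶜ)ᶜ
  have hBo : IsOpen B := ((snd P Go).left.isClosedMap _ hWo.isClosed_compl).isOpen_compl
  have hBne : B.Nonempty := by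
    obtain ⟨ξ, -, hξ⟩ := MonoFibre.exists_isMaxPt (T := ↥Go.left) ⟨onePt G, mem_connectedComponent⟩
    refine ⟨ξ, ?_⟩
    rintro ⟨z, hzW, hz⟩
    refine hzW (mem_of_dense_of_isMaxPt (fun z' h => ?_) hWo hWd)
    have h2 : (snd P Go).left z' = ξ := hξ _ (hz ▸ h.map (snd P Go).left.continuous)
    have hd := ((snd P Go).left.isDiscrete_preimage_singleton ξ)
    rw [isDiscrete_iff_discreteTopology] at hd
    have h3 : (⟨z', h2⟩ : ↥((snd P Go).left ⁻¹' {ξ})) ⤳ ⟨z, hz⟩ := Topology.IsInducing.subtypeVal.specializes_iff.mp h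
    exact congrArg Subtype.val h3.eq
  obtain ⟨Q, j, hQa, hQf, hQfl, hQp, hQs, hQB⟩ :=
    exists_quasiSection G (jo.left '' B) (jo.left.isOpenEmbedding.isOpenMap _ hBo) (hBne.image _)
  refine ⟨Q, j, hQa, hQf, hQfl, hQp, hQs, fun z hz₁ hz₂ => ?_⟩
  obtain ⟨q, hq⟩ := hz₂
  obtain ⟨b, hb, hbz⟩ := hQB ⟨q, rfl⟩
  obtain ⟨w, rfl⟩ : z ∈ Set.range (jx ⊗ₘ jo).left := by
    have hr : z ∈ Set.range (pullback.map P.hom Go.hom G.hom G.hom jx.left jo.left (𝟙 _) (by simp) (by simp)) := by
      rw [Scheme.Pullback.range_map]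
      refine ⟨⟨IsLocalRing.closedPoint (G.left.residueField x), ?_⟩, ⟨b, hbz.trans hq⟩⟩
      exact (Scheme.fromSpecResidueField_apply x _).trans hz₁.symm
    convert! hr using 3
  have hbw : (snd P Go).left w = b := by
    refine jo.left.isOpenEmbedding.injective ?_
    rw [hbz, hq, ← Scheme.Hom.comp_apply, ← Scheme.Hom.comp_apply, ← Over.comp_left, ← Over.comp_left, tensorHom_snd]
  by_contra hcon
  refine hb ⟨w, ?_, hbw⟩
  show ¬ Points.ofPt p (m.left w) ∈ V
  rwa [show m = (jx ⊗ₘ jo) ≫ μ[G] by rw [MonoidalCategory.tensorHom_def', Category.assoc], Over.comp_left,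
    Scheme.Hom.comp_apply]

set_option maxHeartbeats 1600000 in
/-- A point all of whose translates by a finite flat quasi-section lie in an affine open has a scheme neighbourhood. -/
theorem exists_scheme_nhd (u : H ⟶ G) {F : Sp (Spec (CommRingCat.of A))} (p : (yon _).obj G ⟶ F) (hF : IsAlgSpace F)
    (hpf : RepWith @Flat p) (hpl : RepWith @LocallyOfFinitePresentation p) (hps : RepWith @Surjective p)
    (hpb : IsPullback ((yon _).map (cosetT u)) ((yon _).map (snd H G)) p p)
    {V : Over (Spec (CommRingCat.of A))} [IsAffine V.left] {c : (yon _).obj V ⟶ F}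
    (hc : RepWith @IsOpenImmersion c) {x : ↥G.left} {Q : Over (Spec (CommRingCat.of A))} [IsAffine Q.left]
    [IsFinite Q.hom] [Flat Q.hom] [LocallyOfFinitePresentation Q.hom] [Surjective Q.hom] (jγ : Q ⟶ G)
    (hgood : ∀ z : ↥(G ⊗ G).left, (fst G G).left z = x → (snd G G).left z ∈ Set.range jγ.left →
      Points.ofPt p ((μ[G] : G ⊗ G ⟶ G).left z) ∈ Set.range (Points.map c)) :
    ∃ (M : Over (Spec (CommRingCat.of A))) (j : (yon _).obj M ⟶ F), RepWith @IsOpenImmersion j ∧
      Points.ofPt p x ∈ Set.range (Points.map j) := by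
  let F' := F ⨯ (yon _).obj Q
  have sqπ := (isPullback_prod F Q).flip
  have hπ : ∀ {P : MorphismProperty Scheme.{u}} [P.IsStableUnderBaseChange], P (toUnit Q).left →
      RepWith P (prod.fst : F' ⟶ F) := fun {P} _ h =>
    repWith_of_isPullback sqπ (repWith_yon_map (P := P) (g := toUnit Q) h)
  have hπf : RepWith @IsFinite (prod.fst : F' ⟶ F) :=
    hπ (by simpa [Over.toUnit_left] using ‹IsFinite Q.hom›)
  have hπfl : RepWith @Flat (prod.fst : F' ⟶ F) := hπ (by simpa [Over.toUnit_left] using ‹Flat Q.hom›)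
  have hπp : RepWith @LocallyOfFinitePresentation (prod.fst : F' ⟶ F) :=
    hπ (by simpa [Over.toUnit_left] using ‹LocallyOfFinitePresentation Q.hom›)
  have hπs : RepWith @Surjective (prod.fst : F' ⟶ F) :=
    hπ (by simpa [Over.toUnit_left] using ‹Surjective Q.hom›)
  have hF' : IsAlgSpace F' := isAlgSpace_prod hF (IsAlgSpace.yon_obj _)
  obtain ⟨ψ, hψ⟩ := exists_translate_prod u p hpf hpl hps hpb jγ
  -- the translated affine open
  have sqc : IsPullback ((yon _).map (fst V Q)) (prod.lift ((yon _).map (fst V Q) ≫ c) ((yon _).map (snd V Q))) c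
      (prod.fst : F' ⟶ F) := isPullback_pProd c Q
  let c₁ : (yon _).obj (V ⊗ Q) ⟶ F' := prod.lift ((yon _).map (fst V Q) ≫ c) ((yon _).map (snd V Q)) ≫ ψ.inv
  have hc₁ : RepWith @IsOpenImmersion c₁ := repWith_comp (repWith_of_isPullback sqc hc) (repWith_of_isIso _)
  haveI : IsAffine (V ⊗ Q).left := by
    exact inferInstanceAs (IsAffine (pullback V.hom Q.hom))
  have hfib : ∀ f' : Points F', Points.map prod.fst f' = Points.ofPt p x → f' ∈ Set.range (Points.map c₁) := by
    intro f' hf'
    obtain ⟨z₁, hz₁, hz₂⟩ := points_exists_of_isPullback (isPullback_pProd p Q) (Points.schemeHomeo G x) f'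
      (by rw [hf', Points.ofPt_eq_map_ofScheme]; rfl)
    obtain ⟨z, rfl⟩ := (Points.schemeHomeo (G ⊗ Q)).surjective z₁
    rw [Points.map_yon_map_apply] at hz₁
    have hzx : (fst G Q).left z = x := (Points.schemeHomeo G).injective hz₁
    have hmem : Points.map (prod.fst : F' ⟶ F) (Points.map ψ.hom f') ∈ Set.range (Points.map c) := by
      rw [← hz₂, ← Points.map_comp, ← Points.map_comp, hψ, Points.map_comp,
        Points.map_yon_map_apply]
      have h := hgood ((lift (fst G Q) (snd G Q ≫ jγ)).left z)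
        (by rw [← Scheme.Hom.comp_apply, ← Over.comp_left, lift_fst, hzx])
        (by rw [← Scheme.Hom.comp_apply, ← Over.comp_left, lift_snd, Over.comp_left, Scheme.Hom.comp_apply]
            exact ⟨_, rfl⟩)
      rw [← Scheme.Hom.comp_apply, ← Over.comp_left, ← Hom.mul_def, Points.ofPt_eq_map_ofScheme] at h
      exact h
    obtain ⟨y, hy⟩ := hmem
    obtain ⟨y', -, hy'⟩ := points_exists_of_isPullback sqc y (Points.map ψ.hom f') hy
    refine ⟨y', ?_⟩
    rw [Points.map_comp, hy', ← Points.map_comp, ψ.hom_inv_id, Points.map_id]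
  -- the open subspace of points with fibre in the affine open
  let O : Set (Points F) := (Points.map (prod.fst : F' ⟶ F) '' (Set.range (Points.map c₁))ᶜ)ᶜ
  have hO : IsOpen O := (isClosedMap_map_of_finite hπf _ (isOpen_range_map hc₁).isClosed_compl).isOpen_compl
  have hj := repWith_subι F O hO
  obtain ⟨E, e₁, e₂, sqE⟩ : ∃ (E : Sp (Spec (CommRingCat.of A))) (e₁ : E ⟶ subSp F O) (e₂ : E ⟶ F'),
      IsPullback e₁ e₂ (subι F O) prod.fst := ⟨_, _, _, IsPullback.of_hasPullback _ _⟩
  have he₂ : RepWith @IsOpenImmersion e₂ := repWith_of_isPullback sqE hj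
  have he₂r : ∀ w, Points.map e₂ w ∈ Set.range (Points.map c₁) := by
    intro w
    by_contra hw
    have h : Points.map (subι F O) (Points.map e₁ w) ∈ O := (range_map_subι F O).le ⟨_, rfl⟩
    rw [← Points.map_comp, sqE.w, Points.map_comp] at h
    exact h ⟨_, hw, rfl⟩
  obtain ⟨W, d₁, d₂, sqW⟩ : ∃ (W : Over (Spec (CommRingCat.of A))) (d₁ : (yon _).obj W ⟶ E) (d₂ : W ⟶ V ⊗ Q),
      IsPullback d₁ ((yon _).map d₂) e₂ c₁ := ⟨_, _, _, he₂.1.isPullback c₁⟩
  haveI : IsOpenImmersion d₂.left := he₂.2 _ _ _ sqW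
  have hd₁ : RepWith @IsOpenImmersion d₁ := repWith_of_isPullback sqW.flip hc₁
  have hd₁s : RepWith @Surjective d₁ := by
    rw [repWith_surjective_iff hd₁.1]
    intro w
    obtain ⟨y, hy⟩ := he₂r w
    obtain ⟨v, hv, -⟩ := points_exists_of_isPullback sqW w y hy.symm
    exact ⟨v, hv⟩
  haveI : Mono d₁ := mono_of_repWith (P := @IsOpenImmersion)
    (fun g hg => haveI : IsOpenImmersion g := hg; inferInstance) hd₁
  haveI : Sheaf.IsLocallySurjective d₁ := isLocallySurjective_of_repWith
    (repWith_mono (fun _ _ g (hg : IsOpenImmersion g) => inferInstanceAs (Flat g)) hd₁)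
    (repWith_mono (fun _ _ g (hg : IsOpenImmersion g) => inferInstanceAs (LocallyOfFinitePresentation g)) hd₁) hd₁s
  haveI : IsIso d₁ := isIso_of_mono_of_locallySurjective d₁ ‹_›
  have sqa : IsPullback d₁ (d₁ ≫ e₁) e₁ (𝟙 _) := IsPullback.of_horiz_isIso ⟨by simp⟩
  have sqb : IsPullback (d₁ ≫ e₁) (d₁ ≫ e₂) (subι F O) prod.fst :=
    IsPullback.of_iso sqE (asIso d₁).symm (Iso.refl _) (Iso.refl _) (Iso.refl _)
      (by simp) (by simp) (by simp) (by simp)
  obtain ⟨M, ⟨e⟩⟩ := exists_scheme_of_finite_chart (d₁ ≫ e₁) (repWith_of_isPullback sqb.flip hπf)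
    (repWith_of_isPullback sqb.flip hπfl) (repWith_of_isPullback sqb.flip hπp)
    (repWith_of_isPullback sqb.flip hπs) fun A hA => by
    haveI := hA.to_subtype
    obtain ⟨f, hf, hfx⟩ := FinGrpdLib.exists_basicOpen_mem (isAffineOpen_top (V ⊗ Q).left) d₂.left.opensRange
      (fun y : A => d₂.left y.1) (fun _ => trivial) (fun y => ⟨y.1, rfl⟩)
    exact ⟨d₂.left ⁻¹ᵁ (V ⊗ Q).left.basicOpen f,
      ((isAffineOpen_top _).basicOpen f).preimage_of_isOpenImmersion d₂.left hf, fun y hy => hfx ⟨y, hy⟩⟩
  refine ⟨M, e.hom ≫ subι F O, repWith_comp (repWith_of_isIso _) hj, ?_⟩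
  have hxO : Points.ofPt p x ∈ O := by
    rintro ⟨f', hf', hf'x⟩
    exact hf' (hfib f' hf'x)
  obtain ⟨w, hw⟩ := (range_map_subι F O).ge hxO
  exact ⟨Points.map e.inv w, by rw [← Points.map_comp, e.inv_hom_id_assoc, hw]⟩

/-- The quotient of a flat group scheme over an Artinian local ring by a flat closed subgroup is a scheme. -/
theorem exists_quotient (H G : Over (Spec (CommRingCat.of A))) [GrpObj H] [GrpObj G] [Flat H.hom] [Flat G.hom]
    [LocallyOfFiniteType G.hom] (u : H ⟶ G) [IsMonHom u] [IsClosedImmersion u.left] :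
    ∃ (X : Over (Spec (CommRingCat.of A))) (q : G ⟶ X), IsSeparated X.hom ∧ LocallyOfFiniteType X.hom ∧
      Surjective q.left ∧ Flat q.left ∧ LocallyOfFinitePresentation q.left ∧
      IsPullback ((u ▷ G) ≫ μ[G]) (snd H G) q q ∧ Flat X.hom ∧ (Smooth G.hom → Smooth X.hom) := by
  haveI : LocallyOfFiniteType H.hom := by rw [← Over.w u]; infer_instance
  haveI : LocallyOfFinitePresentation H.hom :=
    LocallyOfFinitePresentation.iff_locallyOfFiniteType.mpr inferInstance
  obtain ⟨F, p, hF, hsep, _, hpb, hpf, hpl, hps⟩ := exists_coset_space u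
  haveI : JacobsonSpace ↥G.left := LocallyOfFiniteType.jacobsonSpace G.hom
  have hnhd : ∀ x : closedPoints ↥G.left, ∃ (M : Over (Spec (CommRingCat.of A))) (j : (yon _).obj M ⟶ F),
      RepWith @IsOpenImmersion j ∧ Points.ofPt p x.1 ∈ Set.range (Points.map j) := by
    intro x
    obtain ⟨V, c, hV, hc, hcd⟩ := exists_component_affine p hF hsep hpf hpl x.1
    obtain ⟨Q, jQ, hQa, hQf, hQfl, hQp, hQs, hgood⟩ := exists_good_section p hpf hpl (isOpen_range_map hc) hcd x.2
    exact exists_scheme_nhd u p hF hpf hpl hps hpb hc jQ hgood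
  choose M j hj hjx using hnhd
  obtain ⟨X, ⟨e⟩⟩ := exists_scheme_of_openCover hF M j hj fun z => by
    obtain ⟨y, rfl⟩ := surjective_ofPt hps z
    obtain ⟨x₀, hx₀, hx₀c⟩ := nonempty_inter_closedPoints (show (closure {y}).Nonempty from ⟨y, subset_closure rfl⟩)
      isClosed_closure.isLocallyClosed
    exact ⟨⟨x₀, hx₀c⟩, (specializes_iff_mem_closure.2 hx₀).mem_open
      (Points.isOpen_iff.1 (isOpen_range_map (hj ⟨x₀, hx₀c⟩)) _ p) (hjx ⟨x₀, hx₀c⟩)⟩
  let q : G ⟶ X := (yon _).preimage (p ≫ e.inv)
  have hq : (yon _).map q = p ≫ e.inv := (yon _).map_preimage _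
  have hsq : IsPullback (𝟙 _) ((yon _).map q) p e.hom := IsPullback.of_horiz_isIso ⟨by simp [hq]⟩
  have hmul : ∀ {Q : MorphismProperty Scheme.{u}} [Q.IsStableUnderBaseChange],
      RepWith Q p → Q q.left := fun {Q} _ hQ =>
    (repWith_yon_map_iff Q q).1 (repWith_of_isPullback hsq hQ)
  haveI : Surjective q.left := hmul hps
  haveI : Flat q.left := hmul hpf
  haveI : LocallyOfFinitePresentation q.left := hmul hpl
  haveI : LocallyOfFiniteType (q.left ≫ X.hom) := by rw [Over.w q]; infer_instance
  haveI : LocallyOfFinitePresentation (q.left ≫ X.hom) :=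
    LocallyOfFinitePresentation.iff_locallyOfFiniteType.mpr inferInstance
  haveI : LocallyOfFinitePresentation X.hom :=
    FppfSrc.locallyOfFinitePresentation_of_precomp_fppf q.left X.hom
  haveI : Flat (q.left ≫ X.hom) := by rw [Over.w q]; infer_instance
  have hsepX : IsSeparated X.hom := by
    rw [isSeparated_iff, ← repWith_diag_yon_iff @IsClosedImmersion X]
    refine repWith_of_isPullback (f := Limits.diag F) (g' := e.hom) (g := prod.map e.hom e.hom) ?_ hsep
    exact IsPullback.of_horiz_isIso ⟨by apply prod.hom_ext <;> simp [Limits.diag]⟩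
  refine ⟨X, q, hsepX, inferInstance, ‹_›, ‹_›, ‹_›, IsPullback.of_map (yon _) ?_ ?_,
    FlatDescStalk.flat_of_comp q.left X.hom, fun hsm => ?_⟩
  · refine (yon _).map_injective ?_
    rw [Functor.map_comp, Functor.map_comp _ (snd H G) q, hq, ← Category.assoc, hpb.w, Category.assoc]
  · exact IsPullback.of_iso hpb (Iso.refl _) (Iso.refl _) (Iso.refl _) e.symm (by simp) (by simp)
      (by simp [hq]) (by simp [hq])
  · haveI : Smooth (q.left ≫ X.hom) := by rw [Over.w q]; exact hsm
    exact FppfSrc.smooth_of_precomp_fppf q.left X.hom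

end Groth.Agent.ArtGrpLib
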