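import Groth.Agent.GrpQuotLib.CosetScheme
/-!
The algebraic space of cosets of a flat closed subgroup over an arbitrary base.
-/

set_option backward.isDefEq.respectTransparency false
set_option backward.isDefEq.respectTransparency.types false
set_option linter.style.haveILetI false

universe u

open CategoryTheory CategoryTheory.Limits MonoidalCategory CartesianMonoidalCategory MonObj AlgebraicGeometry

noncomputable section

namespace Groth.Agent.ArtGrpLib

open _root_.AlgSp Groth.Agent.ASp
open Groth.Agent.GrpQuotLib (repWith_diag_of_chart)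

variable {S : Scheme.{u}}

variable {H G : Over S} [GrpObj H] [GrpObj G]

/-- The relation of a subgroup acting by translation. -/
abbrev cosetT (u : H ⟶ G) : H ⊗ G ⟶ G := (u ▷ G) ≫ μ[G]

theorem lift_cosetT (u : H ⟶ G) {T : Over S} (a : T ⟶ H) (b : T ⟶ G) :
    lift a b ≫ cosetT u = (a ≫ u) * b := by
  simp [cosetT, Hom.mul_def]

theorem coset_props [Flat H.hom] [LocallyOfFinitePresentation H.hom] (u : H ⟶ G) [IsMonHom u] [IsClosedImmersion u.left] :
    IsEqvRel (snd H G) (cosetT u) ∧ Flat (cosetT u).left ∧ LocallyOfFinitePresentation (cosetT u).left ∧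
      IsClosedImmersion (lift (cosetT u) (snd H G)).left := by
  haveI : Mono u := Over.mono_of_mono_left u
  let t : H ⊗ G ⟶ G := cosetT u
  have ht := @lift_cosetT S H G _ _ u
  let sh : G ⊗ G ≅ G ⊗ G :=
    { hom := lift (fst G G * snd G G) (snd G G)
      inv := lift (fst G G * (snd G G)⁻¹) (snd G G)
      hom_inv_id := by
        apply CartesianMonoidalCategory.hom_ext
        · simp [MonObj.comp_mul, GrpObj.comp_inv]
        · simp
      inv_hom_id := by
        apply CartesianMonoidalCategory.hom_ext
        · simp [MonObj.comp_mul]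
        · simp }
  let e : H ⊗ G ≅ H ⊗ G :=
    { hom := lift (fst H G) (((fst H G) ≫ u) * snd H G)
      inv := lift (fst H G) (((fst H G) ≫ u)⁻¹ * snd H G)
      hom_inv_id := by
        apply CartesianMonoidalCategory.hom_ext
        · simp
        · simp [MonObj.comp_mul, GrpObj.comp_inv]
      inv_hom_id := by
        apply CartesianMonoidalCategory.hom_ext
        · simp
        · simp [MonObj.comp_mul] }
  have het : t = e.hom ≫ snd H G := by
    rw [lift_snd, ← ht, CartesianMonoidalCategory.lift_fst_snd, Category.id_comp]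
  haveI : IsIso e.hom.left := ((Over.forget _).mapIso e).isIso_hom
  have sq := isPullback_left (A := H ⊗ G) (IsPullback.of_isLimit' ⟨Subsingleton.elim _ _⟩
    (PullbackCone.IsLimit.mk (fst := fst H G) (snd := snd H G) (f := toUnit H) (g := toUnit G) _
      (fun c => lift c.fst c.snd) (fun c => lift_fst _ _) (fun c => lift_snd _ _)
      (fun c m h1 h2 => CartesianMonoidalCategory.hom_ext _ _ (by simpa using h1) (by simpa using h2))))
  haveI : Flat (snd H G).left := MorphismProperty.of_isPullback (P := @Flat) sq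
    (show Flat (toUnit H).left by simpa [Over.toUnit_left] using ‹Flat H.hom›)
  haveI : LocallyOfFinitePresentation (snd H G).left :=
    MorphismProperty.of_isPullback (P := @LocallyOfFinitePresentation) sq
      (show LocallyOfFinitePresentation (toUnit H).left by
        simpa [Over.toUnit_left] using ‹LocallyOfFinitePresentation H.hom›)
  haveI : Flat t.left := by rw [het, Over.comp_left]; infer_instance
  haveI : LocallyOfFinitePresentation t.left := by rw [het, Over.comp_left]; infer_instance
  have hg : lift t (snd H G) = (u ▷ G) ≫ sh.hom := by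
    apply CartesianMonoidalCategory.hom_ext
    · rw [lift_fst, Category.assoc, lift_fst, MonObj.comp_mul, whiskerRight_fst, whiskerRight_snd,
        ← ht, CartesianMonoidalCategory.lift_fst_snd, Category.id_comp]
    · simp [sh]
  haveI : IsIso sh.hom.left := ((Over.forget _).mapIso sh).isIso_hom
  haveI : IsClosedImmersion (u ▷ G).left := by
    have sq' := isPullback_left (A := H ⊗ G) (B := H) (C := G ⊗ G) (D := G) (a := fst H G) (b := u ▷ G) (c := u)
      (d := fst G G) (IsPullback.of_isLimit' ⟨(whiskerRight_fst _ _).symm⟩ (PullbackCone.IsLimit.mk _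
        (fun c => lift c.fst (c.snd ≫ snd G G)) (fun c => lift_fst _ _)
        (fun c => CartesianMonoidalCategory.hom_ext _ _ (by simp [c.condition]) (by simp))
        (fun c m h1 h2 => CartesianMonoidalCategory.hom_ext _ _ (by simpa using h1)
          (by simpa using congrArg (· ≫ snd G G) h2))))
    exact MorphismProperty.of_isPullback (P := @IsClosedImmersion) sq' ‹_›
  haveI : IsClosedImmersion (lift t (snd H G)).left := by rw [hg, Over.comp_left]; infer_instance
  haveI : Mono (lift t (snd H G)) := Over.mono_of_mono_left _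
  refine ⟨
    { injective := fun T r r' h1 h2 => (cancel_mono (lift t (snd H G))).1
        (CartesianMonoidalCategory.hom_ext _ _ (by simpa using h1) (by simpa using h2))
      equivalence := fun T => by
        refine ⟨fun a => ⟨lift (1 : T ⟶ H) a, ?_, lift_snd _ _⟩, fun {a b} ⟨r, h1, h2⟩ =>
          ⟨lift (r ≫ fst H G)⁻¹ a, ?_, lift_snd _ _⟩, fun {a b c} ⟨r, h1, h2⟩ ⟨r', h1', h2'⟩ =>
          ⟨lift ((r ≫ fst H G) * (r' ≫ fst H G)) c, ?_, lift_snd _ _⟩⟩
        · rw [ht, MonObj.one_comp, _root_.one_mul]
        · have hr : a = ((r ≫ fst H G) ≫ u) * b := by rw [← ht, ← h1, ← h2, ← comp_lift, lift_fst_snd, Category.comp_id]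
          rw [ht, GrpObj.inv_comp, hr, inv_mul_cancel_left]
        · have hr : a = ((r ≫ fst H G) ≫ u) * b := by rw [← ht, ← h1, ← h2, ← comp_lift, lift_fst_snd, Category.comp_id]
          have hr' : b = ((r' ≫ fst H G) ≫ u) * c := by rw [← ht, ← h1', ← h2', ← comp_lift, lift_fst_snd, Category.comp_id]
          rw [ht, MonObj.mul_comp, _root_.mul_assoc, ← hr', ← hr] }, ‹_›, ‹_›, ‹_›⟩

/-- The separated algebraic space of cosets. -/
theorem exists_coset_space [Flat H.hom] [LocallyOfFinitePresentation H.hom] (u : H ⟶ G) [IsMonHom u] [IsClosedImmersion u.left] :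
    ∃ (F : Sp S) (p : (yon _).obj G ⟶ F), IsAlgSpace F ∧ IsSeparatedSp F ∧ Epi p ∧
      IsPullback ((yon _).map (cosetT u)) ((yon _).map (snd H G)) p p ∧
      RepWith @Flat p ∧ RepWith @LocallyOfFinitePresentation p ∧ RepWith @Surjective p := by
  obtain ⟨h, _, _, hc⟩ := coset_props u
  obtain ⟨p, -, hpb, hchart, hdiag, hepi⟩ := exists_flat_presentation h
  have : Sheaf.IsLocallySurjective p := (Sheaf.isLocallySurjective_iff_epi _).2 hepi
  obtain ⟨hpf, hpl, hps⟩ := repWith_flat_surjective_of_kernelPair p hpb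
  exact ⟨_, p, isAlgSpace_of_fppfChart (IsAlgSpace.yon_obj G) hchart,
    repWith_diag_of_chart hpb hchart hdiag @IsClosedImmersion FpqcDesc.isClosedImmersion_descends hc,
    hepi, hpb, hpf, hpl, hps⟩

theorem hom_ext_yon_tensor {A B : Over S} {Z : Sp S}
    (a c : Z ⟶ (yon _).obj (A ⊗ B)) (ha : a ≫ (yon _).map (fst A B) = c ≫ (yon _).map (fst A B))
    (hc : a ≫ (yon _).map (snd A B) = c ≫ (yon _).map (snd A B)) : a = c := by
  refine hom_ext_yon fun T g => ?_
  obtain ⟨α, hα⟩ := (yon _).map_surjective (g ≫ a)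
  obtain ⟨γ', hγ⟩ := (yon _).map_surjective (g ≫ c)
  rw [← hα, ← hγ]
  refine congrArg _ (CartesianMonoidalCategory.hom_ext _ _ ((yon _).map_injective ?_) ((yon _).map_injective ?_))
  · rw [Functor.map_comp, Functor.map_comp, hα, hγ, Category.assoc, Category.assoc, ha]
  · rw [Functor.map_comp, Functor.map_comp, hα, hγ, Category.assoc, Category.assoc, hc]

/-- A product with a scheme over the base is a pullback of its structure map. -/
theorem isPullback_prod (F : Sp S) (Q : Over S) :
    IsPullback (prod.fst : F ⨯ (yon _).obj Q ⟶ F) prod.snd (isTerminalYonBase.from F)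
      ((yon _).map (toUnit Q)) := by
  have e : (yon S).map (toUnit Q) = isTerminalYonBase.from _ := isTerminalYonBase.hom_ext _ _
  rw [e]
  exact IsPullback.of_is_product (limit.isLimit (pair F ((yon _).obj Q))) isTerminalYonBase

/-- The product of the coset projection with a scheme. -/
def pProd {G : Over S} {F : Sp S} (p : (yon _).obj G ⟶ F) (Q : Over S) :
    (yon _).obj (G ⊗ Q) ⟶ F ⨯ (yon _).obj Q :=
  prod.lift ((yon _).map (fst G Q) ≫ p) ((yon _).map (snd G Q))

theorem isPullback_pProd {G : Over S} {F : Sp S}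
    (p : (yon _).obj G ⟶ F)
    (Q : Over S) :
    IsPullback ((yon _).map (fst G Q)) (pProd p Q) p prod.fst := by
  refine IsPullback.of_isLimit' ⟨(prod.lift_fst _ _).symm⟩ ?_
  have hlift : ∀ c : PullbackCone p (prod.fst : F ⨯ (yon _).obj Q ⟶ F), ∃ l : c.pt ⟶ (yon _).obj (G ⊗ Q),
      l ≫ (yon _).map (fst G Q) = c.fst ∧ l ≫ (yon _).map (snd G Q) = c.snd ≫ prod.snd := by
    intro c
    have h := isPullback_yon_map (S := S) (A := G ⊗ Q) (a := fst G Q) (b := snd G Q) (c := toUnit G) (d := toUnit Q)
      (IsPullback.of_isLimit' ⟨Subsingleton.elim _ _⟩ (PullbackCone.IsLimit.mk _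
        (fun c => lift c.fst c.snd) (fun c => lift_fst _ _) (fun c => lift_snd _ _)
        (fun c m h1 h2 => CartesianMonoidalCategory.hom_ext _ _ (by simpa using h1) (by simpa using h2))))
    exact ⟨h.lift c.fst (c.snd ≫ prod.snd) (hom_ext_yon_base _ _), h.lift_fst _ _ _, h.lift_snd _ _ _⟩
  choose l hl₁ hl₂ using hlift
  refine PullbackCone.IsLimit.mk _ l hl₁ (fun c => ?_) (fun c m h1 h2 => hom_ext_yon_tensor _ _ (h1.trans (hl₁ c).symm) ?_)
  · apply prod.hom_ext
    · rw [Category.assoc, pProd, prod.lift_fst, reassoc_of% hl₁ c, c.condition]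
    · rw [Category.assoc, pProd, prod.lift_snd, hl₂]
  · rw [hl₂, ← h2, Category.assoc, pProd, prod.lift_snd]

/-- Translation of the space of cosets by a parametrised point. -/
theorem exists_translate_prod (u : H ⟶ G) {F : Sp S} (p : (yon _).obj G ⟶ F)
    (hpf : RepWith @Flat p) (hpl : RepWith @LocallyOfFinitePresentation p) (hps : RepWith @Surjective p)
    (hpb : IsPullback ((yon _).map (cosetT u)) ((yon _).map (snd H G)) p p)
    {Q : Over S} (g : Q ⟶ G) :
    ∃ ψ : F ⨯ (yon _).obj Q ≅ F ⨯ (yon _).obj Q,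
      pProd p Q ≫ ψ.hom ≫ prod.fst = (yon _).map (fst G Q * (snd G Q ≫ g)) ≫ p := by
  have sq := isPullback_pProd p Q
  haveI : Epi (pProd p Q) := by
    haveI : Sheaf.IsLocallySurjective (pProd p Q) := isLocallySurjective_of_repWith (repWith_of_isPullback sq hpf)
      (repWith_of_isPullback sq hpl) (repWith_of_isPullback sq hps)
    infer_instance
  have key : ∀ g' : Q ⟶ G, ∃ φ : F ⨯ (yon _).obj Q ⟶ F ⨯ (yon _).obj Q,
      pProd p Q ≫ φ = (yon _).map (lift (fst G Q * (snd G Q ≫ g')) (snd G Q)) ≫ pProd p Q := by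
    intro g'
    refine exists_desc_of_epi (pProd p Q) (IsPullback.of_hasPullback _ _) _ (hom_ext_yon fun T w => ?_)
    obtain ⟨α, hα⟩ := (yon _).map_surjective (w ≫ pullback.fst (pProd p Q) (pProd p Q))
    obtain ⟨β, hβ⟩ := (yon _).map_surjective (w ≫ pullback.snd (pProd p Q) (pProd p Q))
    simp only [← Category.assoc]
    rw [← hα, ← hβ, ← Functor.map_comp, ← Functor.map_comp]
    have e : (yon _).map α ≫ pProd p Q = (yon _).map β ≫ pProd p Q := by
      rw [hα, hβ, Category.assoc, Category.assoc, pullback.condition]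
    have e1 := congrArg (· ≫ prod.fst) e
    have e2 := congrArg (· ≫ prod.snd) e
    simp only [pProd, Category.assoc, prod.lift_fst, prod.lift_snd, ← Functor.map_comp] at e2
    simp only [pProd, Category.assoc, prod.lift_fst] at e1
    simp only [← Category.assoc, ← Functor.map_comp] at e1
    have e2' := (yon _).map_injective e2
    obtain ⟨r, hr⟩ := (yon _).map_surjective (hpb.lift _ _ e1)
    have hr₁ : r ≫ cosetT u = α ≫ fst G Q := (yon _).map_injective (by rw [Functor.map_comp, hr, hpb.lift_fst])
    have hr₂ : r ≫ snd H G = β ≫ fst G Q := (yon _).map_injective (by rw [Functor.map_comp, hr, hpb.lift_snd])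
    have hc : lift (r ≫ fst H G) ((β ≫ fst G Q) * (α ≫ snd G Q ≫ g')) ≫ cosetT u =
        α ≫ (fst G Q * (snd G Q ≫ g')) := by
      rw [lift_cosetT, ← _root_.mul_assoc, ← lift_cosetT u, ← hr₂, ← comp_lift, lift_fst_snd, Category.comp_id,
        hr₁, MonObj.comp_mul]
    apply prod.hom_ext
    · simp only [pProd, Category.assoc, prod.lift_fst]
      simp only [← Category.assoc, ← Functor.map_comp]
      simp only [Category.assoc, lift_fst]
      rw [← hc, Functor.map_comp, Category.assoc, hpb.w, ← Category.assoc, ← Functor.map_comp, lift_snd,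
        MonObj.comp_mul, reassoc_of% e2']
    · simp only [pProd, Category.assoc, prod.lift_snd]
      simp only [← Functor.map_comp, Category.assoc, lift_snd, e2']
  have inv_pair : ∀ x y : Q ⟶ G, x * y = 1 →
      lift (fst G Q * (snd G Q ≫ x)) (snd G Q) ≫ lift (fst G Q * (snd G Q ≫ y)) (snd G Q) = 𝟙 _ := fun x y hxy => by
    apply CartesianMonoidalCategory.hom_ext
    · rw [Category.assoc, lift_fst, MonObj.comp_mul, lift_fst, lift_snd_assoc, _root_.mul_assoc, ← MonObj.comp_mul,
        hxy, MonObj.comp_one, _root_.mul_one, Category.id_comp]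
    · simp
  obtain ⟨φ, hφ⟩ := key g
  obtain ⟨φ', hφ'⟩ := key g⁻¹
  refine ⟨{ hom := φ, inv := φ', hom_inv_id := ?_, inv_hom_id := ?_ }, ?_⟩
  · rw [← cancel_epi (pProd p Q), ← Category.assoc, hφ, Category.assoc, hφ', ← Category.assoc, ← Functor.map_comp,
      inv_pair _ _ (mul_inv_cancel g), (yon _).map_id, Category.id_comp, Category.comp_id]
  · rw [← cancel_epi (pProd p Q), ← Category.assoc, hφ', Category.assoc, hφ, ← Category.assoc, ← Functor.map_comp,
      inv_pair _ _ (inv_mul_cancel g), (yon _).map_id, Category.id_comp, Category.comp_id]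
  · rw [← Category.assoc, hφ, Category.assoc, pProd, prod.lift_fst, ← Category.assoc, ← Functor.map_comp, lift_fst]

end Groth.Agent.ArtGrpLib
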