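import Groth.Agent.ArtGrpLib.SqThick
/-!
A nilpotent thickening of a faithfully flat descent datum of rings is effective.
-/

set_option autoImplicit false
set_option linter.style.haveILetI false
set_option backward.isDefEq.respectTransparency false

universe u

open TensorProduct CategoryTheory

namespace Groth.Agent.ArtGrpLib

/-- A thickening of a descent datum: `r` presents `C₁`, over which the datum is effective. -/
structure Datum {C D B₁ C₁ : Type u} [CommRing C] [CommRing D] [CommRing B₁] [CommRing C₁] [Algebra B₁ C₁]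
    (s t : C →+* D) (r : C →+* C₁) (π : D →+* C₁ ⊗[B₁] C₁) : Prop where
  r_surj : Function.Surjective r
  map_eq : (RingHom.ker r).map s = (RingHom.ker r).map t
  flat : s.Flat
  π_s : ∀ c, π (s c) = r c ⊗ₜ[B₁] (1 : C₁)
  π_t : ∀ c, π (t c) = (1 : C₁) ⊗ₜ[B₁] r c
  π_surj : Function.Surjective π
  π_ker : RingHom.ker π = (RingHom.ker r).map s
  ext_hom : ∀ (T : Type u) [CommRing T] (f g : D →+* T), f.comp s = g.comp s → f.comp t = g.comp t → f = g
  diag : ∃ ε : D →+* C, ε.comp s = RingHom.id C ∧ ε.comp t = RingHom.id C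
  trans : ∀ (T : Type u) [CommRing T] (a b : D →+* T), a.comp t = b.comp s →
    ∃ c : D →+* T, c.comp s = a.comp s ∧ c.comp t = b.comp t

/-- The kernel pair of a faithfully flat map. -/
def Effective {C D : Type u} [CommRing C] [CommRing D] (s t : C →+* D) : Prop :=
  ∃ (B : Type u) (_ : CommRing B) (f : B →+* C), f.FaithfullyFlat ∧
    IsPushout (CommRingCat.ofHom f) (CommRingCat.ofHom f) (CommRingCat.ofHom s) (CommRingCat.ofHom t)

set_option maxHeartbeats 1000000 in
theorem effective_of_pow_eq_bot : ∀ (n : ℕ) {C D B₁ C₁ : Type u} [CommRing C] [CommRing D] [CommRing B₁]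
    [CommRing C₁] [Algebra B₁ C₁] [Module.FaithfullyFlat B₁ C₁] {s t : C →+* D} {r : C →+* C₁}
    {π : D →+* C₁ ⊗[B₁] C₁}, Datum s t r π → RingHom.ker r ^ (n + 1) = ⊥ → Effective s t := by
  intro n
  induction n with
  | zero =>
    intro C D B₁ C₁ _ _ _ _ _ _ s t r π H hn
    rw [zero_add, pow_one] at hn
    let e : C ≃+* C₁ := RingEquiv.ofBijective r ⟨(RingHom.injective_iff_ker_eq_bot r).2 hn, H.r_surj⟩
    let eπ : D ≃+* C₁ ⊗[B₁] C₁ := RingEquiv.ofBijective π
      ⟨(RingHom.injective_iff_ker_eq_bot π).2 (by rw [H.π_ker, hn, Ideal.map_bot]), H.π_surj⟩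
    refine ⟨B₁, inferInstance, e.symm.toRingHom.comp (algebraMap B₁ C₁), ?_, ?_⟩
    · exact RingHom.FaithfullyFlat.stableUnderComposition _ _ (RingHom.faithfullyFlat_algebraMap_iff.2 ‹_›)
        (RingHom.FaithfullyFlat.of_bijective e.symm.bijective)
    · refine (CommRingCat.isPushout_tensorProduct B₁ C₁ C₁).of_iso (Iso.refl _) e.symm.toCommRingCatIso
        e.symm.toCommRingCatIso eπ.symm.toCommRingCatIso (by ext; rfl) (by ext; rfl) ?_ ?_
      · ext c
        exact eπ.injective ((eπ.apply_symm_apply _).trans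
          ((H.π_s (e.symm c)).trans (by rw [show r (e.symm c) = c from e.apply_symm_apply c]; rfl)).symm)
      · ext c
        exact eπ.injective ((eπ.apply_symm_apply _).trans
          ((H.π_t (e.symm c)).trans (by rw [show r (e.symm c) = c from e.apply_symm_apply c]; rfl)).symm)
  | succ n ih =>
    intro C D B₁ C₁ _ _ _ _ _ _ s t r π H hn
    set J := RingHom.ker r with hJdef
    let K : Ideal C := J ^ (n + 1)
    have hKJ : K ≤ J := Ideal.pow_le_self (Nat.succ_ne_zero n)
    let KD : Ideal D := K.map s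
    have hKt : K.map t = KD := by rw [Ideal.map_pow, ← H.map_eq, ← Ideal.map_pow]
    let mC : C →+* C ⧸ K := Ideal.Quotient.mk K
    let mD : D →+* D ⧸ KD := Ideal.Quotient.mk KD
    let s' : C ⧸ K →+* D ⧸ KD := Ideal.Quotient.lift K (mD.comp s) fun k hk =>
      Ideal.Quotient.eq_zero_iff_mem.2 (Ideal.mem_map_of_mem s hk)
    let t' : C ⧸ K →+* D ⧸ KD := Ideal.Quotient.lift K (mD.comp t) fun k hk =>
      Ideal.Quotient.eq_zero_iff_mem.2 (hKt ▸ Ideal.mem_map_of_mem t hk)
    let r' : C ⧸ K →+* C₁ := Ideal.Quotient.lift K r fun k hk => hKJ hk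
    let π' : D ⧸ KD →+* C₁ ⊗[B₁] C₁ := Ideal.Quotient.lift KD π fun x hx => by
      have : KD ≤ RingHom.ker π := H.π_ker ▸ Ideal.map_mono hKJ
      exact this hx
    have hmC : Function.Surjective mC := Ideal.Quotient.mk_surjective
    have hmD : Function.Surjective mD := Ideal.Quotient.mk_surjective
    have hker' : RingHom.ker r' = J.map mC := by
      ext x
      obtain ⟨c, rfl⟩ := hmC x
      rw [RingHom.mem_ker, show r' (mC c) = r c from rfl, Ideal.mem_map_iff_of_surjective mC hmC]
      refine ⟨fun h => ⟨c, h, rfl⟩, fun ⟨c', hc', h⟩ => ?_⟩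
      have : c' - c ∈ J := hKJ (Ideal.Quotient.eq.1 h)
      exact (show c ∈ J by simpa using J.sub_mem hc' this)
    have hs'm : s'.comp mC = mD.comp s := rfl
    have ht'm : t'.comp mC = mD.comp t := rfl
    have H' : Datum s' t' r' π' :=
      { r_surj := fun y => let ⟨c, hc⟩ := H.r_surj y; ⟨mC c, hc⟩
        map_eq := by rw [hker', Ideal.map_map, Ideal.map_map, hs'm, ht'm, ← Ideal.map_map, ← Ideal.map_map, H.map_eq]
        flat := by
          letI := s.toAlgebra
          haveI : Module.Flat C D := H.flat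
          have h : Module.Flat (C ⧸ K) (D ⧸ K.map (algebraMap C D)) :=
            Module.Flat.of_linearEquiv (Algebra.TensorProduct.quotIdealMapEquivQuotTensor D K).toLinearEquiv
          have h2 : (algebraMap (C ⧸ K) (D ⧸ K.map (algebraMap C D))).Flat := RingHom.flat_algebraMap_iff.2 h
          exact h2
        π_s := fun c => by obtain ⟨c, rfl⟩ := hmC c; exact H.π_s c
        π_t := fun c => by obtain ⟨c, rfl⟩ := hmC c; exact H.π_t c
        π_surj := fun y => let ⟨d, hd⟩ := H.π_surj y; ⟨mD d, hd⟩
        π_ker := by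
          rw [hker', Ideal.map_map, hs'm, ← Ideal.map_map, ← H.π_ker]
          ext x
          obtain ⟨d, rfl⟩ := hmD x
          rw [RingHom.mem_ker, show π' (mD d) = π d from rfl, Ideal.mem_map_iff_of_surjective mD hmD]
          refine ⟨fun h => ⟨d, h, rfl⟩, fun ⟨d', hd', h⟩ => ?_⟩
          have : d' - d ∈ RingHom.ker π := by
            rw [H.π_ker]; exact Ideal.map_mono hKJ (Ideal.Quotient.eq.1 h)
          simpa using (RingHom.ker π).sub_mem hd' this
        ext_hom := fun T _ f g e1 e2 => Ideal.Quotient.ringHom_ext (H.ext_hom T _ _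
          (congrArg (fun h : C ⧸ K →+* T => h.comp mC) e1) (congrArg (fun h : C ⧸ K →+* T => h.comp mC) e2))
        diag := by
          obtain ⟨ε, h1, h2⟩ := H.diag
          refine ⟨Ideal.Quotient.lift KD (mC.comp ε) fun x hx => ?_, Ideal.Quotient.ringHom_ext ?_,
            Ideal.Quotient.ringHom_ext ?_⟩
          · have : KD ≤ RingHom.ker (mC.comp ε) := Ideal.map_le_iff_le_comap.2 fun k hk => by
              show mC (ε (s k)) = 0
              rw [show ε (s k) = k from RingHom.congr_fun h1 k]
              exact Ideal.Quotient.eq_zero_iff_mem.2 hk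
            exact this hx
          · exact congrArg mC.comp h1
          · exact congrArg mC.comp h2
        trans := fun T _ a b hab => by
          obtain ⟨c, hc1, hc2⟩ := H.trans T (a.comp mD) (b.comp mD)
            (congrArg (fun h : C ⧸ K →+* T => h.comp mC) hab)
          refine ⟨Ideal.Quotient.lift KD c fun x hx => ?_, Ideal.Quotient.ringHom_ext hc1,
            Ideal.Quotient.ringHom_ext hc2⟩
          have : KD ≤ RingHom.ker c := Ideal.map_le_iff_le_comap.2 fun k hk => by
            show c (s k) = 0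
            rw [show c (s k) = a (mD (s k)) from RingHom.congr_fun hc1 k,
              Ideal.Quotient.eq_zero_iff_mem.2 (Ideal.mem_map_of_mem s hk), map_zero]
          exact this hx }
    obtain ⟨B', _, f', hf', hpo⟩ := ih H' (by rw [hker', ← Ideal.map_pow]; exact Ideal.map_quotient_self K)
    -- the square zero step
    letI := s.toAlgebra
    letI := f'.toAlgebra
    haveI : Module.FaithfullyFlat B' (C ⧸ K) := hf'
    let eK := ((CommRingCat.isPushout_tensorProduct B' (C ⧸ K) (C ⧸ K)).isoIsPushout _ _ hpo).commRingCatIsoToRingEquiv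
    let πK : D →+* (C ⧸ K) ⊗[B'] (C ⧸ K) := eK.symm.toRingHom.comp mD
    have hK₁ : ∀ c, eK (mC c ⊗ₜ[B'] (1 : C ⧸ K)) = mD (s c) := fun c =>
      RingHom.congr_fun (congrArg CommRingCat.Hom.hom
        ((CommRingCat.isPushout_tensorProduct B' (C ⧸ K) (C ⧸ K)).inl_isoIsPushout_hom _ _ hpo)) (mC c)
    have hK₂ : ∀ c, eK ((1 : C ⧸ K) ⊗ₜ[B'] mC c) = mD (t c) := fun c =>
      RingHom.congr_fun (congrArg CommRingCat.Hom.hom
        ((CommRingCat.isPushout_tensorProduct B' (C ⧸ K) (C ⧸ K)).inr_isoIsPushout_hom _ _ hpo)) (mC c)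
    have HK : SqDatum (B₁ := B') (J := K) t πK :=
      { sq := fun i hi j hj => by
          have : i * j ∈ J ^ (n + 1 + (n + 1)) := by rw [pow_add]; exact Ideal.mul_mem_mul hi hj
          exact (hn ▸ Ideal.pow_le_pow_right (by omega) this : i * j ∈ (⊥ : Ideal C))
        map_eq := hKt.symm
        flat := H.flat
        π_s := fun c => eK.injective ((eK.apply_symm_apply _).trans (hK₁ c).symm)
        π_t := fun c => eK.injective ((eK.apply_symm_apply _).trans (hK₂ c).symm)
        π_surj := eK.symm.surjective.comp hmD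
        π_ker := by
          rw [RingHom.ker_equiv_comp]
          exact Ideal.mk_ker
        ext_hom := H.ext_hom
        diag := H.diag
        trans := H.trans }
    exact HK.exists_base

end Groth.Agent.ArtGrpLib
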