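import Groth.Agent.ArtGrpLib.Component
import Groth.Agent.ArtGrpLib.CosetSpace
import Groth.Agent.GrpSchLib.Dimension
import Groth.Agent.CMFlatLib.Locus
import Groth.Agent.LocDimBC.Scheme
import Groth.Agent.DimFormulaLib.Field
/-!
The components of the quotient of a group over a field by a closed subgroup.
-/

set_option backward.isDefEq.respectTransparency false
set_option backward.isDefEq.respectTransparency.types false
set_option linter.style.haveILetI false

universe u

open CategoryTheory CategoryTheory.Limits MonoidalCategory CartesianMonoidalCategory MonObj AlgebraicGeometry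

noncomputable section

namespace Groth.Agent.ArtGrpLib

open GrpSchLib (idObj idIncl idComp actMap unitPt invM)

variable {K : Type u} [Field K] {H G X : Over (Spec (CommRingCat.of K))} [GrpObj H] [GrpObj G]

/-- Saturated images of components are stable under specialization. -/
theorem mem_sat_of_specializes (u : H ⟶ G) (q : G ⟶ X) (hsq : IsPullback (cosetT u) (snd H G) q q) {g ξ y : G.left}
    (hξ : ∃ c ∈ connectedComponent g, q.left c = q.left ξ) (h : ξ ⤳ y) :
    ∃ c ∈ connectedComponent g, q.left c = q.left y := by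
  obtain ⟨c, hc, hcξ⟩ := hξ
  obtain ⟨p, hp, hps⟩ := GrpSchLib.exists_actMap_eq (h.map (invM G).left.continuous)
  let b : idObj G ⊗ G ⟶ G ⊗ G := lift (snd _ _ ≫ invM G) (fst _ _ ≫ idIncl G ≫ invM G)
  have hb₁ : (fst G G).left (b.left p) = ξ := by
    rw [← Scheme.Hom.comp_apply, ← Over.comp_left, lift_fst, Over.comp_left, Scheme.Hom.comp_apply, hps,
      GrpSchLib.invM_invM]
  have hb₂ : (snd G G).left (b.left p) ∈ connectedComponent (unitPt G) := by
    rw [← Scheme.Hom.comp_apply, ← Over.comp_left, lift_snd, Over.comp_left, Scheme.Hom.comp_apply]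
    have hm : (idIncl G).left ((fst (idObj G) G).left p) ∈ connectedComponent (unitPt G) := by
      rw [GrpSchLib.connectedComponent_eq]
      exact (GrpSchLib.range_idIncl (G := G)).le ⟨_, rfl⟩
    have hi := (invM G).left.continuous.image_connectedComponent_subset (unitPt G) ⟨_, hm, rfl⟩
    rw [GrpSchLib.invM_unitPt] at hi
    exact hi
  have hb₃ : (μ[G] : G ⊗ G ⟶ G).left (b.left p) = y := by
    have e : b ≫ μ[G] = actMap ≫ invM G := by
      show lift _ _ ≫ μ[G] = (idIncl G ▷ G ≫ μ[G]) ≫ invM G
      rw [← Hom.mul_def, GrpSchLib.comp_invM, GrpSchLib.comp_invM, GrpSchLib.comp_invM,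
        GrpSchLib.whiskerRight_mul, mul_inv_rev, GrpObj.comp_inv]
    rw [← Scheme.Hom.comp_apply, ← Over.comp_left, e, Over.comp_left, Scheme.Hom.comp_apply, hp, GrpSchLib.invM_invM]
  have hl := GrpQuotLib.isPullback_left hsq
  obtain ⟨z', h1, h2⟩ := Scheme.Pullback.exists_preimage_pullback ξ c hcξ.symm
  rw [← hl.isoPullback_inv_fst, Scheme.Hom.comp_apply] at h1
  rw [← hl.isoPullback_inv_snd, Scheme.Hom.comp_apply] at h2
  obtain ⟨z, hz⟩ : ∃ z, hl.isoPullback.inv z' = z := ⟨_, rfl⟩
  rw [hz] at h1 h2
  obtain ⟨P, a', e', t₀, hat, het, hae'⟩ : ∃ (P : Over (Spec (CommRingCat.of K))) (a' : P ⟶ H ⊗ G) (e' : P ⟶ G ⊗ G)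
      (t₀ : P.left), a'.left t₀ = z ∧ e'.left t₀ = b.left p ∧ a' ≫ cosetT u = e' ≫ fst G G := by
    obtain ⟨w, hw₁, hw₂⟩ := Scheme.Pullback.exists_preimage_pullback (f := (cosetT u).left) (g := (fst G G).left)
      z (b.left p) (h1.trans hb₁.symm)
    exact ⟨Over.mk (pullback.fst (cosetT u).left (fst G G).left ≫ (H ⊗ G).hom),
      Over.homMk (pullback.fst _ _), Over.homMk (pullback.snd _ _) (by
        show pullback.snd _ _ ≫ (G ⊗ G).hom = pullback.fst _ _ ≫ (H ⊗ G).hom
        rw [← Over.w (cosetT u), ← Over.w (fst G G), ← Category.assoc, ← Category.assoc, pullback.condition]),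
      w, hw₁, hw₂, Over.OverMorphism.ext pullback.condition⟩
  let v : P ⟶ G := (a' ≫ snd H G) * (e' ≫ snd G G)
  have key : lift (a' ≫ fst H G) v ≫ cosetT u = e' ≫ μ[G] := by
    rw [lift_cosetT, ← _root_.mul_assoc, ← lift_cosetT, ← comp_lift, lift_fst_snd, Category.comp_id, hae',
      ← MonObj.comp_mul, Hom.mul_def, lift_fst_snd, Category.id_comp]
  refine ⟨v.left t₀, ?_, ?_⟩
  · have hv : v = lift (a' ≫ snd H G) (e' ≫ snd G G) ≫ μ[G] := Hom.mul_def _ _
    rw [hv, Over.comp_left, Scheme.Hom.comp_apply]
    have := mul_mem_aux ((lift (a' ≫ snd H G) (e' ≫ snd G G)).left t₀) (by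
      rw [← Scheme.Hom.comp_apply, ← Over.comp_left, lift_snd, Over.comp_left, Scheme.Hom.comp_apply, het]
      exact hb₂)
    have hfst : (fst G G).left ((lift (a' ≫ snd H G) (e' ≫ snd G G)).left t₀) = c := by
      rw [← Scheme.Hom.comp_apply, ← Over.comp_left, lift_fst, Over.comp_left, Scheme.Hom.comp_apply, hat, h2]
    rw [hfst, ← connectedComponent_eq hc] at this
    exact this
  · have hy : y = (e' ≫ μ[G]).left t₀ := by
      rw [Over.comp_left, Scheme.Hom.comp_apply, het, hb₃]
    rw [hy, ← key, ← Scheme.Hom.comp_apply, ← Scheme.Hom.comp_apply, ← Over.comp_left, ← Over.comp_left,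
      Category.assoc, hsq.w, lift_snd_assoc]

variable [LocallyOfFiniteType G.hom]

/-- The image of a component is a component. -/
theorem image_component (u : H ⟶ G) (q : G ⟶ X) [Surjective q.left] [Flat q.left]
    [LocallyOfFinitePresentation q.left] (hsq : IsPullback (cosetT u) (snd H G) q q) (g : G.left) :
    connectedComponent (q.left g) = q.left '' connectedComponent g ∧ IsOpen (connectedComponent (q.left g)) ∧
      IsIrreducible (connectedComponent (q.left g)) ∧ IsCompact (connectedComponent (q.left g)) := by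
  haveI : IsLocallyNoetherian G.left := LocallyOfFiniteType.isLocallyNoetherian G.hom
  have hirr : ∀ y : G.left, IsIrreducible (connectedComponent y) := fun y => by
    rw [GrpSchLib.connectedComponent_eq]; exact isIrreducible_irreducibleComponent
  have hcpt : IsCompact (connectedComponent g) := by
    obtain ⟨V, hV, hgV, -⟩ := exists_isAffineOpen_mem_and_subset (X := G.left) (x := g) (U := ⊤) trivial
    haveI := GrpSchLib.compactSpace_idObj (G := G)
    haveI : QuasiCompact (snd (idObj G) G).left :=
      MorphismProperty.of_isPullback (P := @QuasiCompact) GrpSchLib.isPullback_fst_snd inferInstance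
    have hc : IsCompact (GrpSchLib.satOpen G (V : Set G.left)) :=
      ((snd (idObj G) G).left.isCompact_preimage (U := V) hV.isCompact).image (actMap (G := G)).left.continuous
    exact hc.of_isClosed_subset isClosed_connectedComponent
      (isConnected_connectedComponent.isPreconnected.subset_isClopen (GrpSchLib.isClopen_satOpen V.2 hV.isCompact)
        ⟨g, mem_connectedComponent, (GrpSchLib.mem_satOpen_iff V.2 g).mpr ⟨g, mem_irreducibleComponent, hgV⟩⟩)
  let D : Set X.left := q.left '' connectedComponent g
  have hDo : IsOpen D := q.left.isOpenMap _ (isOpen_connectedComponent g)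
  have hqm : Topology.IsQuotientMap q.left :=
    q.left.isOpenMap.isQuotientMap q.left.continuous q.left.surjective
  have hDc : IsClosed D := by
    rw [← hqm.isClosed_preimage]
    refine isClosed_of_closure_subset fun y hy => ?_
    obtain ⟨w, hwy, hw⟩ := mem_closure_iff.1 hy _ (isOpen_connectedComponent y) mem_connectedComponent
    obtain ⟨ζ, hζ⟩ := QuasiSober.sober (hirr y) isClosed_connectedComponent
    obtain ⟨c, hc, e⟩ := mem_sat_of_specializes u q hsq (g := g) (ξ := ζ)
      ((hζ.specializes hwy).mem_open (hDo.preimage q.left.continuous) hw) (hζ.specializes mem_connectedComponent)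
    exact ⟨c, hc, e⟩
  have hDirr : IsIrreducible D := (hirr g).image _ q.left.continuous.continuousOn
  have hD : connectedComponent (q.left g) = D :=
    Set.Subset.antisymm (isPreconnected_connectedComponent.subset_isClopen ⟨hDc, hDo⟩
      ⟨_, mem_connectedComponent, g, mem_connectedComponent, rfl⟩)
      (hDirr.isConnected.isPreconnected.subset_connectedComponent ⟨g, mem_connectedComponent, rfl⟩)
  rw [hD]
  exact ⟨rfl, hDo, hDirr, hcpt.image q.left.continuous⟩

/-- The dimension of a component of the quotient. -/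
theorem component_dim (u : H ⟶ G) [IsMonHom u] [LocallyOfFiniteType H.hom] (q : G ⟶ X) [Surjective q.left] [Flat q.left]
    [LocallyOfFinitePresentation q.left] [LocallyOfFiniteType X.hom] (hsq : IsPullback (cosetT u) (snd H G) q q)
    (g : G.left) :
    topologicalKrullDim ↥(connectedComponent (q.left g)) + topologicalKrullDim ↥H.left =
      topologicalKrullDim ↥G.left := by
  haveI : IsLocallyNoetherian G.left := LocallyOfFiniteType.isLocallyNoetherian G.hom
  haveI : IsLocallyNoetherian X.left := LocallyOfFiniteType.isLocallyNoetherian X.hom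
  haveI : IsLocallyNoetherian H.left := LocallyOfFiniteType.isLocallyNoetherian H.hom
  haveI : JacobsonSpace ↥G.left := LocallyOfFiniteType.jacobsonSpace G.hom
  haveI : JacobsonSpace ↥X.left := LocallyOfFiniteType.jacobsonSpace X.hom
  obtain ⟨c, hcg, hc⟩ := nonempty_inter_closedPoints (X := G.left) ⟨g, mem_connectedComponent⟩
    isClosed_connectedComponent.isLocallyClosed
  obtain ⟨hD, hDo, hDirr, -⟩ := image_component u q hsq g
  have hxD : q.left c ∈ connectedComponent (q.left g) := hD.ge ⟨c, hcg, rfl⟩
  have hqc : IsClosed ({q.left c} : Set X.left) :=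
    q.left.closePoints_subset_preimage_closedPoints hc
  -- the component
  let W : X.left.Opens := ⟨connectedComponent (q.left g), hDo⟩
  haveI : IrreducibleSpace ↥(W : Scheme) := isIrreducible_iff_irreducibleSpace.mp hDirr
  have hWdim : topologicalKrullDim ↥(connectedComponent (q.left g)) = ringKrullDim (X.left.presheaf.stalk (q.left c)) := by
    rw [← DimFormulaLib.localDim_eq_of_isClosed X.hom _ hqc]
    refine le_antisymm (le_iInf fun U => ?_) (iInf_le_of_le ⟨W, hxD⟩ le_rfl)
    let U' : (W : Scheme).Opens := W.ι ⁻¹ᵁ U.1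
    show topologicalKrullDim ↥(W : Scheme) ≤ _
    rw [← DimFormulaLib.topologicalKrullDim_opens (W.ι ≫ X.hom) U' ⟨⟨q.left c, hxD⟩, U.2⟩]
    exact Topology.IsInducing.topologicalKrullDim_le
      (f := fun w : ↥U' => (⟨W.ι w.1, w.2⟩ : ↥(U.1 : Set X.left)))
      (Topology.IsInducing.codRestrict ((W.ι.isOpenEmbedding.isInducing).comp Topology.IsInducing.subtypeVal) _)
  -- the fibre
  let z : (H ⊗ G).left := (lift (1 : G ⟶ H) (𝟙 G)).left c
  have hzt : (cosetT u).left z = c := by
    rw [← Scheme.Hom.comp_apply, ← Over.comp_left, lift_cosetT, MonObj.one_comp, _root_.one_mul]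
    rfl
  have hzh : (fst H G).left z = unitPt H := by
    rw [← Scheme.Hom.comp_apply, ← Over.comp_left, lift_fst]
    exact GrpSchLib.one_apply G c
  haveI : LocallyOfFiniteType q.left := inferInstance
  have e₁ := LocDimBC.fibreDimAt_baseChange (GrpQuotLib.isPullback_left hsq) z
  have e₂ := LocDimBC.fibreDimAt_baseChange (GrpSchLib.isPullback_fst_snd (T := H) (G := G)) z
  rw [hzt] at e₁
  rw [hzh] at e₂
  haveI : LocallyOfFiniteType (q.left.fiberToSpecResidueField (q.left c)) :=
    MorphismProperty.pullback_snd _ _ inferInstance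
  have hfib : ringKrullDim ((q.left.fiber (q.left c)).presheaf.stalk (q.left.asFiber c)) =
      FlatMor.fibreDimAt q.left c := by
    refine (DimFormulaLib.localDim_eq_of_isClosed (q.left.fiberToSpecResidueField (q.left c)) _ ?_).symm
    have : ({q.left.asFiber c} : Set _) = q.left.fiberι (q.left c) ⁻¹' {c} := by
      ext w
      simp only [Set.mem_singleton_iff, Set.mem_preimage]
      exact ⟨fun h => h ▸ q.left.fiberι_asFiber c,
        fun h => (q.left.fiberι _).isEmbedding.injective (h.trans (q.left.fiberι_asFiber c).symm)⟩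
    rw [this]
    exact hc.preimage (q.left.fiberι _).continuous
  rw [hWdim, ← GrpSchLib.ringKrullDim_stalk_eq_topologicalKrullDim H _ GrpSchLib.isClosed_unitPt,
    ← GrpSchLib.ringKrullDim_stalk_eq_topologicalKrullDim G c hc,
    CMFlatLib.stalk_dim_eq q.left c (Flat.stalkMap q.left c), hfib, ← e₁, e₂,
    ← DimFormulaLib.localDim_eq_fibreDimAt_of_subsingleton H.hom,
    DimFormulaLib.localDim_eq_of_isClosed H.hom _ GrpSchLib.isClosed_unitPt]

end Groth.Agent.ArtGrpLib
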