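import Groth.Agent.GrpQuotLib.Descend
import Groth.Prelude.Def_AlgGrp
/-!
Right quotients and quotient groups from left quotients.
-/

set_option backward.isDefEq.respectTransparency.types false
set_option linter.style.haveILetI false

universe u

open CategoryTheory CategoryTheory.Limits MonoidalCategory CartesianMonoidalCategory MonObj AlgebraicGeometry

noncomputable section

namespace Groth.Agent.ArtGrpLib

open Groth.Agent.GrpQuotLib

variable {S : Scheme.{u}} {H G X : Over S} [GrpObj H] [GrpObj G]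

/-- A quotient by left translations gives one by right translations. -/
theorem exists_right_of_left (u : H ⟶ G) [IsMonHom u] (q : G ⟶ X) [Surjective q.left] [Flat q.left]
    [LocallyOfFinitePresentation q.left] (hsq : IsPullback ((u ▷ G) ≫ μ[G]) (snd H G) q q) :
    ∃ q' : G ⟶ X, Surjective q'.left ∧ Flat q'.left ∧ LocallyOfFinitePresentation q'.left ∧
      IsPullback ((G ◁ u) ≫ μ[G]) (fst G H) q' q' := by
  let iG : G ≅ G := { hom := (𝟙 G)⁻¹, inv := (𝟙 G)⁻¹
                      hom_inv_id := by simp [GrpObj.comp_inv]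
                      inv_hom_id := by simp [GrpObj.comp_inv] }
  let e : G ⊗ H ≅ H ⊗ G :=
    { hom := lift (snd G H)⁻¹ (fst G H)⁻¹
      inv := lift (snd H G)⁻¹ (fst H G)⁻¹
      hom_inv_id := by apply CartesianMonoidalCategory.hom_ext <;> simp [GrpObj.comp_inv]
      inv_hom_id := by apply CartesianMonoidalCategory.hom_ext <;> simp [GrpObj.comp_inv] }
  have key : ((G ◁ u) ≫ μ[G]) ≫ iG.hom = e.hom ≫ ((u ▷ G) ≫ μ[G]) := by
    have e1 : (G ◁ u) ≫ μ[G] = fst G H * (snd G H ≫ u) := by
      rw [Hom.mul_def, ← lift_whiskerLeft_assoc, lift_fst_snd, Category.id_comp]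
    simp only [e, iG, lift_whiskerRight_assoc, ← Hom.mul_def, GrpObj.comp_inv, Category.comp_id, e1,
      mul_inv_rev, GrpObj.inv_comp]
  haveI : IsIso iG.hom.left := ((Over.forget _).mapIso iG).isIso_hom
  refine ⟨iG.hom ≫ q, by rw [Over.comp_left]; infer_instance,
    by rw [Over.comp_left]; infer_instance, by rw [Over.comp_left]; infer_instance, ?_⟩
  exact IsPullback.of_iso hsq e.symm iG.symm iG.symm (Iso.refl _)
    (by simp only [Iso.symm_hom]; rw [Iso.comp_inv_eq, Category.assoc, key, Iso.inv_hom_id_assoc])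
    (by simp only [Iso.symm_hom]; simp [e, iG, GrpObj.comp_inv])
    (by simp) (by simp)

/-- The quotient group by a normal subgroup. -/
theorem exists_group_of_left (u : H ⟶ G) [IsMonHom u] [Mono u] (hN : AlgGrp.IsNormalHom u) (q₀ : G ⟶ X)
    [Surjective q₀.left] [Flat q₀.left] [LocallyOfFinitePresentation q₀.left]
    (hsq₀ : IsPullback ((u ▷ G) ≫ μ[G]) (snd H G) q₀ q₀) :
    ∃ (_ : GrpObj X) (q : G ⟶ X), IsMonHom q ∧ Surjective q.left ∧ Flat q.left ∧
      LocallyOfFinitePresentation q.left ∧ AlgGrp.IsKernel u q := by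
  obtain ⟨q, hqs, hqf, hqp, hsq⟩ := exists_right_of_left u q₀ hsq₀
  haveI := hqs
  haveI := hqf
  haveI := hqp
  haveI : SchDesc.IsFpqc (𝟙 G ≫ q).left := by
    rw [Category.id_comp]; exact SchDesc.IsFpqc.of_locallyOfFinitePresentation _
  obtain ⟨s, hs, -, -⟩ := existsUnique_grpObj u q (𝟙 G) hsq hN
  letI := s
  haveI := hs
  have hker : ∀ {T : Over S} (g : T ⟶ G), g ≫ q = 1 → ∃ n, n ≫ u = g := by
    intro T g hg
    have h := hsq.exists_lift g (1 : T ⟶ G) (by rw [hg, MonObj.one_comp])
    obtain ⟨z, e1, e2⟩ := h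
    refine ⟨z ≫ snd G H, ?_⟩
    rw [show z = lift (z ≫ fst G H) (z ≫ snd G H) by rw [← comp_lift, lift_fst_snd, Category.comp_id],
      lift_whiskerLeft_assoc, e2, ← Hom.mul_def, _root_.one_mul] at e1
    exact e1
  choose lf hlf using @hker
  have hw : u ≫ q = toUnit H ≫ η[X] := by
    have := lift (1 : H ⟶ G) (𝟙 H) ≫= hsq.w
    simp only [lift_fst_assoc, lift_whiskerLeft_assoc, Category.assoc, MonObj.one_comp, Category.id_comp] at this
    rw [← Category.assoc, ← Hom.mul_def, _root_.one_mul] at this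
    rw [← Hom.one_def]
    exact this
  exact ⟨s, q, hs, hqs, hqf, hqp, IsPullback.of_isLimit' ⟨hw⟩ (PullbackCone.IsLimit.mk _
    (fun c => lf c.fst (by rw [c.condition, Hom.one_def]; exact congrArg (· ≫ η[X]) (toUnit_unique _ _)))
    (fun c => hlf _ _) (fun c => toUnit_unique _ _)
    (fun c m hm _ => (cancel_mono u).1 (hm.trans (hlf _ _).symm)))⟩

end Groth.Agent.ArtGrpLib
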