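import Groth.Agent.ArtGrpLib.Amitsur
import Groth.Agent.FibreFlatSp.Nilp
/-!
A square zero thickening of a faithfully flat descent datum of rings is effective.
-/

set_option autoImplicit false
set_option linter.style.haveILetI false
set_option backward.isDefEq.respectTransparency false
set_option backward.defeqAttrib.useBackward true

universe u

open TensorProduct CategoryTheory

namespace Groth.Agent.ArtGrpLib

/-- A module flat modulo a nilpotent ideal along which `I ⊗ M → M` is injective is flat. -/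
theorem flat_of_nilpotent_of_injective {A M : Type u} [CommRing A] [AddCommGroup M] [Module A M] (I' : Ideal A)
    (hI : IsNilpotent I') [Module.Flat (A ⧸ I') ((A ⧸ I') ⊗[A] M)]
    (hI' : Function.Injective (I'.subtype.rTensor M)) : Module.Flat A M := by
  obtain ⟨n, hn⟩ := hI
  have hn' : I' ^ n = ⊥ := hn
  rw [Module.Flat.iff_rTensor_injective']
  intro J
  rw [rTensor_injective_iff_lcomp_surjective]
  intro φ
  have step : ∀ k, k ≤ n → ∀ (h : J ≤ J ⊔ I' ^ (n - k)),
      ∃ ψ : ↥(J ⊔ I' ^ (n - k)) →ₗ[A] CharacterModule M, ψ ∘ₗ Submodule.inclusion h = φ := by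
    intro k
    induction k with
    | zero =>
      intro _ h
      have e : J ⊔ I' ^ (n - 0) ≤ J := by rw [Nat.sub_zero, hn', sup_bot_eq]
      exact ⟨φ ∘ₗ Submodule.inclusion e, LinearMap.ext fun x => rfl⟩
    | succ k ih =>
      intro hk h
      obtain ⟨ψ, hψ⟩ := ih (by omega) le_sup_left
      have hsub : J ⊔ I' ^ (n - k) ≤ J ⊔ I' ^ (n - (k + 1)) :=
        sup_le_sup_left (Ideal.pow_le_pow_right (by omega)) J
      let J' : Submodule A ↥(J ⊔ I' ^ (n - (k + 1))) := Submodule.comap (Submodule.subtype (J ⊔ I' ^ (n - (k + 1)))) (J ⊔ I' ^ (n - k))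
      have hJ' : I' • (⊤ : Submodule A ↥(J ⊔ I' ^ (n - (k + 1)))) ≤ J' := by
        refine Submodule.smul_le.mpr fun a ha x _ => ?_
        obtain ⟨j, hj, i, hi, hji⟩ := Submodule.mem_sup.mp x.2
        show a • x.1 ∈ J ⊔ I' ^ (n - k)
        rw [← hji, smul_add]
        refine add_mem (Submodule.mem_sup_left (J.smul_mem a hj)) (Submodule.mem_sup_right ?_)
        rw [show n - k = (n - (k + 1)) + 1 by omega, pow_succ']
        exact Ideal.mul_mem_mul ha hi
      obtain ⟨χ, hχ⟩ := FibreFlatSp.exists_extend_of_smul_top_le I' hI' J' hJ'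
        (ψ ∘ₗ LinearMap.codRestrict (J ⊔ I' ^ (n - k)) (Submodule.subtype _ ∘ₗ J'.subtype) fun x => x.2)
      refine ⟨χ, LinearMap.ext fun x => ?_⟩
      have := LinearMap.congr_fun hχ ⟨Submodule.inclusion h x, show x.1 ∈ J ⊔ I' ^ (n - k) from
        Submodule.mem_sup_left x.2⟩
      rw [← hψ]
      exact this
  obtain ⟨ψ, hψ⟩ := step n le_rfl le_sup_left
  have htop : ∀ a : A, a ∈ J ⊔ I' ^ (n - n) := fun a => Submodule.mem_sup_right (by simp)
  exact ⟨ψ ∘ₗ LinearMap.codRestrict _ LinearMap.id htop, LinearMap.ext fun x => LinearMap.congr_fun hψ x⟩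


variable {C D B₁ : Type u} [CommRing C] [CommRing D] [CommRing B₁]
variable {J : Ideal C} [Algebra B₁ (C ⧸ J)] [Algebra C D] {t : C →+* D} {π : D →+* (C ⧸ J) ⊗[B₁] (C ⧸ J)}

local notation "q" => Ideal.Quotient.mk J
local notation "s" => algebraMap C D

set_option maxHeartbeats 1000000 in
/-- A square zero thickening of a descent datum comes from a faithfully flat ring map. -/
theorem SqDatum.exists_base (H : SqDatum (B₁ := B₁) (J := J) t π) [Module.FaithfullyFlat B₁ (C ⧸ J)] :
    ∃ (B : Type u) (_ : CommRing B) (f : B →+* C), f.FaithfullyFlat ∧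
      IsPushout (CommRingCat.ofHom f) (CommRingCat.ofHom f) (CommRingCat.ofHom (algebraMap C D))
        (CommRingCat.ofHom t) := by
  have htors : Module.IsTorsionBySet C J (J : Set C) := fun j a =>
    Subtype.ext (by simpa using H.sq _ a.2 _ j.2)
  letI : Module (C ⧸ J) J := htors.module
  haveI : IsScalarTower C (C ⧸ J) J := htors.isScalarTower
  letI : Module B₁ J := Module.compHom J (algebraMap B₁ (C ⧸ J))
  haveI : IsScalarTower B₁ (C ⧸ J) J := ⟨fun b x j => by
    rw [Algebra.smul_def b x, mul_smul]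
    rfl⟩
  obtain ⟨d, hbij, hd, hlift⟩ := H.exists_coaction
  obtain ⟨β, hβi, hβ, -, hβs, -⟩ := H.exists_beta
  obtain ⟨ε, hεs, -⟩ := H.diag
  have hg : Function.Injective (algebraMap B₁ (C ⧸ J)) := FaithfulSMul.algebraMap_injective _ _
  let B : Subring C := (algebraMap C D).eqLocus t
  let f : B →+* C := B.subtype
  have hfeq : ∀ b : B, s (b : C) = t b := fun b => b.2
  -- the reduction
  have hex : ∀ b : B, ∃ b₁, algebraMap B₁ (C ⧸ J) b₁ = q (b : C) := by
    intro b
    refine TorsorLift.mem_range_of_one_tmul (S := C ⧸ J) (Algebra.linearMap B₁ (C ⧸ J)) (q (b : C))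
      ⟨q (b : C) ⊗ₜ 1, ?_⟩
    rw [LinearMap.lTensor_tmul, Algebra.linearMap_apply, map_one, ← H.π_s, ← H.π_t, hfeq]
  choose ρ₀ hρ₀ using hex
  let ρ : B →+* B₁ :=
    { toFun := ρ₀
      map_one' := hg (by rw [hρ₀]; simp)
      map_mul' := fun a b => hg (by rw [map_mul, hρ₀, hρ₀, hρ₀]; simp)
      map_zero' := hg (by rw [hρ₀]; simp)
      map_add' := fun a b => hg (by rw [map_add, hρ₀, hρ₀, hρ₀]; simp) }
  have hρ : ∀ b : B, algebraMap B₁ (C ⧸ J) (ρ b) = q (b : C) := hρ₀
  have hρs : Function.Surjective ρ := by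
    intro b₁
    obtain ⟨c, hc⟩ := Ideal.Quotient.mk_surjective (algebraMap B₁ (C ⧸ J) b₁)
    obtain ⟨j, hj⟩ := hlift c (by
      rw [← H.π_ker, RingHom.mem_ker, map_sub, H.π_s, H.π_t, hc, sub_eq_zero, Algebra.algebraMap_eq_smul_one,
        TensorProduct.tmul_smul, TensorProduct.smul_tmul'])
    have hmem : c - (j : C) ∈ B := by
      show s (c - j) = t (c - j)
      rw [map_sub, map_sub, eq_comm, ← sub_eq_zero]
      linear_combination hj
    refine ⟨⟨_, hmem⟩, hg ?_⟩
    rw [hρ, map_sub, hc, Ideal.Quotient.eq_zero_iff_mem.2 j.2, sub_zero]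
  let I₀ : Ideal B := J.comap f
  have hρk : RingHom.ker ρ = I₀ := by
    ext b
    rw [RingHom.mem_ker, ← map_eq_zero_iff _ hg, hρ, Ideal.Quotient.eq_zero_iff_mem]
    rfl
  have hI₀sq : I₀ ^ 2 = ⊥ := by
    rw [pow_two, eq_bot_iff, Ideal.mul_le]
    exact fun a ha b hb => Subtype.ext (H.sq _ ha _ hb)
  letI := f.toAlgebra
  letI := ρ.toAlgebra
  have hker : ∀ m : LinearMap.ker d, ((m.1 : J) : C) ∈ B := fun m => ((hd m.1).1 m.2).symm
  let toI : LinearMap.ker d → I₀ := fun m => ⟨⟨_, hker m⟩, m.1.2⟩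
  -- the ideal is generated by its invariants
  have hJ : ∀ (P : C → Prop), P 0 → (∀ x y, P x → P y → P (x + y)) → (∀ (m : I₀) c, P (c * f m.1)) →
      ∀ j ∈ J, P j := by
    intro P h0 hadd hmul j hj
    obtain ⟨w, hw⟩ := hbij.2 ⟨j, hj⟩
    rw [show j = ((⟨j, hj⟩ : J) : C) from rfl, ← hw]
    clear hw
    induction w using TensorProduct.induction_on with
    | zero => rw [map_zero]; exact h0
    | tmul x m =>
      obtain ⟨c, rfl⟩ := Ideal.Quotient.mk_surjective x
      rw [LinearMap.liftBaseChange_tmul, smul_coe_J]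
      exact hmul (toI m) c
    | add x y hx hy => rw [map_add, Submodule.coe_add]; exact hadd _ _ hx hy
  have hbsmul : ∀ (b : B) (j : J), ((ρ b • j : J) : C) = (b : C) * (j : C) := fun b j => by
    rw [show ρ b • j = algebraMap B₁ (C ⧸ J) (ρ b) • j from rfl, hρ, smul_coe_J]
  -- flatness
  haveI : Module.Flat B C := by
    haveI hq : Module.Flat (B ⧸ I₀) ((B ⧸ I₀) ⊗[B] C) := by
      let e : B ⧸ I₀ ≃+* B₁ :=
        (Ideal.quotEquivOfEq hρk.symm).trans (RingHom.quotientKerEquivOfSurjective hρs)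
      let g₀ : B ⧸ I₀ →+* C ⧸ J := (algebraMap B₁ (C ⧸ J)).comp e.toRingHom
      have hg₀ : ∀ b : B, g₀ (Ideal.Quotient.mk I₀ b) = q (b : C) := fun b => hρ b
      letI := g₀.toAlgebra
      haveI : Module.Flat (B ⧸ I₀) (C ⧸ J) :=
        RingHom.Flat.comp (RingHom.Flat.of_bijective (f := e.toRingHom) e.bijective)
          (RingHom.flat_algebraMap_iff.2 (inferInstance : Module.Flat B₁ (C ⧸ J)))
      let incR : C →+* (B ⧸ I₀) ⊗[B] C := (Algebra.TensorProduct.includeRight).toRingHom
      have hinc : ∀ j ∈ J, incR j = 0 := hJ _ (map_zero _) (fun x y hx hy => by rw [map_add, hx, hy, add_zero])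
        fun m c => by
          show (1 : B ⧸ I₀) ⊗ₜ[B] (c * f m.1) = 0
          rw [_root_.mul_comm, show f m.1 * c = m.1 • c from rfl, TensorProduct.tmul_smul,
            TensorProduct.smul_tmul', Algebra.smul_def, Ideal.Quotient.algebraMap_eq,
            Ideal.Quotient.eq_zero_iff_mem.2 m.2, zero_mul, TensorProduct.zero_tmul]
      let inv : C ⧸ J →+* (B ⧸ I₀) ⊗[B] C := Ideal.Quotient.lift J incR hinc
      let lin : C ⧸ J →ₗ[B ⧸ I₀] (B ⧸ I₀) ⊗[B] C :=
        { toFun := inv
          map_add' := map_add inv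
          map_smul' := fun x y => by
            obtain ⟨b, rfl⟩ := Ideal.Quotient.mk_surjective x
            obtain ⟨c, rfl⟩ := Ideal.Quotient.mk_surjective y
            rw [Algebra.smul_def, RingHom.algebraMap_toAlgebra, hg₀, ← map_mul]
            show (1 : B ⧸ I₀) ⊗ₜ[B] ((b : C) * c) = Ideal.Quotient.mk I₀ b • ((1 : B ⧸ I₀) ⊗ₜ[B] c)
            rw [show (b : C) * c = b • c from rfl, TensorProduct.tmul_smul, TensorProduct.smul_tmul',
              TensorProduct.smul_tmul', Algebra.smul_def b, smul_eq_mul]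
            rfl }
      let fwdA : (B ⧸ I₀) ⊗[B] C →+ C ⧸ J := TensorProduct.liftAddHom
        (AddMonoidHom.mk' (fun x => AddMonoidHom.mk' (fun c => g₀ x * q c) (fun a b => by rw [map_add, mul_add]))
          (fun x y => AddMonoidHom.ext fun c => by
            show g₀ (x + y) * q c = g₀ x * q c + g₀ y * q c
            rw [map_add, add_mul]))
        (fun b x c => by
          show g₀ (b • x) * q c = g₀ x * q (b • c)
          rw [Algebra.smul_def, map_mul, Ideal.Quotient.algebraMap_eq, hg₀,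
            show b • c = (b : C) * c from rfl, map_mul]
          ring)
      have hfi : ∀ w, lin (fwdA w) = w := by
        intro w
        induction w using TensorProduct.induction_on with
        | zero => simp
        | add x y hx hy => rw [map_add, map_add, hx, hy]
        | tmul x c =>
          obtain ⟨b, rfl⟩ := Ideal.Quotient.mk_surjective x
          show inv (g₀ (Ideal.Quotient.mk I₀ b) * q c) = _
          rw [hg₀, ← map_mul]
          show (1 : B ⧸ I₀) ⊗ₜ[B] ((b : C) * c) = _
          rw [show (b : C) * c = b • c from rfl, TensorProduct.tmul_smul, TensorProduct.smul_tmul',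
            Algebra.smul_def, _root_.mul_one]
          rfl
      have hif : ∀ y, fwdA (lin y) = y := by
        intro y
        obtain ⟨c, rfl⟩ := Ideal.Quotient.mk_surjective y
        show g₀ 1 * q c = q c
        rw [map_one, _root_.one_mul]
      exact Module.Flat.of_linearEquiv (LinearEquiv.ofBijective lin
        ⟨Function.LeftInverse.injective hif, Function.RightInverse.surjective hfi⟩).symm
    refine flat_of_nilpotent_of_injective I₀ ⟨2, hI₀sq⟩ ?_
    have hkill : ∀ (m : I₀), ∀ j ∈ J, m ⊗ₜ[B] j = 0 := fun m => hJ _ (TensorProduct.tmul_zero _ _)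
      (fun x y hx hy => by rw [TensorProduct.tmul_add, hx, hy, add_zero]) fun m' c => by
        rw [_root_.mul_comm, show f m'.1 * c = m'.1 • c from rfl, TensorProduct.tmul_smul,
          TensorProduct.smul_tmul', show m'.1 • m = 0 from Subtype.ext (Subtype.ext
            (H.sq _ m'.2 _ m.2)), TensorProduct.zero_tmul]
    let ν₀ : (C ⧸ J) →+ LinearMap.ker d →+ I₀ ⊗[B] C := QuotientAddGroup.lift J.toAddSubgroup
      (AddMonoidHom.mk' (fun c => AddMonoidHom.mk' (fun m => toI m ⊗ₜ[B] c) (fun a b => by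
          rw [← TensorProduct.add_tmul]; rfl))
        (fun a b => AddMonoidHom.ext fun m => TensorProduct.tmul_add _ _ _))
      (fun j hj => AddMonoidHom.ext fun m => hkill (toI m) j hj)
    have hν₀ : ∀ c m, ν₀ (q c) m = toI m ⊗ₜ[B] c := fun c m => rfl
    let ν := TensorProduct.liftAddHom (R := B₁) ν₀ fun b x m => by
      obtain ⟨c, rfl⟩ := Ideal.Quotient.mk_surjective x
      obtain ⟨b', rfl⟩ := hρs b
      rw [Algebra.smul_def (ρ b'), hρ, ← map_mul, hν₀, hν₀, show (b' : C) * c = b' • c from rfl,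
        TensorProduct.tmul_smul, TensorProduct.smul_tmul']
      congr 1
      exact Subtype.ext (Subtype.ext (hbsmul b' m.1).symm)
    have hν : Function.Surjective ν := by
      intro w
      induction w using TensorProduct.induction_on with
      | zero => exact ⟨0, map_zero _⟩
      | add x y hx hy =>
        obtain ⟨a, rfl⟩ := hx
        obtain ⟨b, rfl⟩ := hy
        exact ⟨a + b, map_add _ _ _⟩
      | tmul m c => exact ⟨q c ⊗ₜ ⟨⟨(f m.1 : C), m.2⟩, (hd _).2 (hfeq m.1).symm⟩, rfl⟩
    have hmul : ∀ z, TensorProduct.lid B C (I₀.subtype.rTensor C (ν z)) =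
        ((LinearMap.liftBaseChange (C ⧸ J) (LinearMap.ker d).subtype z : J) : C) := by
      intro z
      induction z using TensorProduct.induction_on with
      | zero => simp
      | add x y hx hy => simp only [map_add, hx, hy, Submodule.coe_add]
      | tmul x m =>
        obtain ⟨c, rfl⟩ := Ideal.Quotient.mk_surjective x
        rw [LinearMap.liftBaseChange_tmul, smul_coe_J, _root_.mul_comm]
        rfl
    intro w w' h
    obtain ⟨z, rfl⟩ := hν w
    obtain ⟨z', rfl⟩ := hν w'
    exact congrArg ν (hbij.1 (Subtype.ext ((hmul z).symm.trans ((congrArg (TensorProduct.lid B C) h).trans (hmul z')))))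
  have hff : Module.FaithfullyFlat B C := by
    refine (Module.FaithfullyFlat.iff_flat_and_ideal_smul_eq_top B C).2 ⟨inferInstance, fun I hI => ?_⟩
    rw [Ideal.smul_top_eq_map, Submodule.restrictScalars_eq_top_iff] at hI
    have h1 : (I.map ρ).map (algebraMap B₁ (C ⧸ J)) = ⊤ := by
      rw [Ideal.map_map, show (algebraMap B₁ (C ⧸ J)).comp ρ = (q).comp f from RingHom.ext hρ,
        ← Ideal.map_map, show I.map f = ⊤ from hI, Ideal.map_top]
    have h2 : I.map ρ = ⊤ := by
      have := (Module.FaithfullyFlat.iff_flat_and_ideal_smul_eq_top B₁ (C ⧸ J)).1 inferInstance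
      refine this.2 _ ?_
      rw [Ideal.smul_top_eq_map, h1]
      rfl
    obtain ⟨b, hb, hb1⟩ := (Ideal.mem_map_iff_of_surjective ρ hρs).1
      ((Ideal.eq_top_iff_one (I.map ρ)).1 h2)
    refine Ideal.eq_top_of_isUnit_mem _ hb ?_
    have hn : IsNilpotent (b - 1) := ⟨2, by
      have : b - 1 ∈ I₀ := by rw [← hρk, RingHom.mem_ker, map_sub, hb1, map_one, sub_self]
      have := hI₀sq ▸ Ideal.pow_mem_pow this 2
      simpa using this⟩
    simpa using hn.isUnit_one_add
  refine ⟨B, inferInstance, f, hff, ?_⟩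
  -- the cartesian property
  let fs : C →ₐ[B] D := { (algebraMap C D) with commutes' := fun b => rfl }
  let ft : C →ₐ[B] D := { t with commutes' := fun b => (hfeq b).symm }
  let φ : C ⊗[B] C →ₐ[B] D := Algebra.TensorProduct.lift fs ft fun _ _ => Commute.all _ _
  have hφ : ∀ a b, φ (a ⊗ₜ b) = s a * t b := fun a b => Algebra.TensorProduct.lift_tmul ..
  have hsurjK : ∀ x ∈ J.map s, x ∈ φ.toRingHom.range := by
    intro x hx
    obtain ⟨z, rfl⟩ := hβs x hx
    clear hx
    induction z using TensorProduct.induction_on with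
    | zero => exact ⟨0, by simp⟩
    | add a b ha hb => rw [map_add]; exact add_mem ha hb
    | tmul y j =>
      obtain ⟨c, rfl⟩ := Ideal.Quotient.mk_surjective y
      exact ⟨(j : C) ⊗ₜ c, by rw [hβ]; exact hφ _ _⟩
  have hsurj : Function.Surjective φ := by
    intro x
    have key : ∀ p : (C ⧸ J) ⊗[B₁] (C ⧸ J), ∃ w, π (φ w) = p := by
      intro p
      induction p using TensorProduct.induction_on with
      | zero => exact ⟨0, by simp⟩
      | add a b ha hb =>
        obtain ⟨w, hw⟩ := ha
        obtain ⟨w', hw'⟩ := hb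
        exact ⟨w + w', by rw [map_add, map_add, hw, hw']⟩
      | tmul a b =>
        obtain ⟨a, rfl⟩ := Ideal.Quotient.mk_surjective a
        obtain ⟨b, rfl⟩ := Ideal.Quotient.mk_surjective b
        exact ⟨a ⊗ₜ b, by rw [hφ, map_mul, H.π_s, H.π_t, Algebra.TensorProduct.tmul_mul_tmul,
          _root_.mul_one, _root_.one_mul]⟩
    obtain ⟨w, hw⟩ := key (π x)
    obtain ⟨w', hw'⟩ := hsurjK (x - φ w) (by rw [← H.π_ker, RingHom.mem_ker, map_sub, hw, sub_self])
    exact ⟨w + w', by rw [map_add, show φ w' = x - φ w from hw']; abel⟩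
  have hinj : Function.Injective φ := by
    have hkill : ∀ (j : J), ∀ j' ∈ J, (j : C) ⊗ₜ[B] j' = 0 := fun j => hJ _ (TensorProduct.tmul_zero _ _)
      (fun x y hx hy => by rw [TensorProduct.tmul_add, hx, hy, add_zero]) fun m c => by
        rw [_root_.mul_comm, show f m.1 * c = m.1 • c from rfl, TensorProduct.tmul_smul,
          TensorProduct.smul_tmul', show m.1 • (j : C) = 0 from H.sq _ m.2 _ j.2, TensorProduct.zero_tmul]
    let r₀ : (C ⧸ J) →+ J →+ C ⊗[B] C := QuotientAddGroup.lift J.toAddSubgroup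
      (AddMonoidHom.mk' (fun c => AddMonoidHom.mk' (fun j : J => (j : C) ⊗ₜ[B] c) (fun a b => by
          rw [← TensorProduct.add_tmul]; rfl))
        (fun a b => AddMonoidHom.ext fun m => TensorProduct.tmul_add _ _ _))
      (fun j hj => AddMonoidHom.ext fun m => hkill m j hj)
    have hr₀ : ∀ c j, r₀ (q c) j = (j : C) ⊗ₜ[B] c := fun c m => rfl
    let r := TensorProduct.liftAddHom (R := B₁) r₀ fun b x j => by
      obtain ⟨c, rfl⟩ := Ideal.Quotient.mk_surjective x
      obtain ⟨b', rfl⟩ := hρs b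
      rw [Algebra.smul_def (ρ b'), hρ, ← map_mul, hr₀, hr₀, show (b' : C) * c = b' • c from rfl,
        TensorProduct.tmul_smul, TensorProduct.smul_tmul', hbsmul]
      rfl
    have hφr : ∀ z, φ (r z) = β z := by
      intro z
      induction z using TensorProduct.induction_on with
      | zero => simp
      | add a b ha hb => rw [map_add, map_add, map_add, ha, hb]
      | tmul y j =>
        obtain ⟨c, rfl⟩ := Ideal.Quotient.mk_surjective y
        rw [hβ]
        exact hφ _ _
    have hrmem : ∀ (c : C), ∀ j ∈ J, j ⊗ₜ[B] c ∈ r.range ∧ c ⊗ₜ[B] j ∈ r.range := by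
      intro c j hj
      refine ⟨⟨q c ⊗ₜ ⟨j, hj⟩, rfl⟩, hJ (fun j => c ⊗ₜ[B] j ∈ r.range)
        (by rw [TensorProduct.tmul_zero]; exact zero_mem _)
        (fun x y hx hy => by rw [TensorProduct.tmul_add]; exact add_mem hx hy) (fun m c' => ?_) j hj⟩
      rw [_root_.mul_comm, show f m.1 * c' = m.1 • c' from rfl, TensorProduct.tmul_smul, TensorProduct.smul_tmul']
      exact ⟨q c' ⊗ₜ ⟨m.1 • c, J.mul_mem_right c m.2⟩, rfl⟩
    let pr : C ⊗[B] C →+ (C ⊗[B] C) ⧸ r.range := QuotientAddGroup.mk' _
    let χ₀ : (C ⧸ J) →+ (C ⧸ J) →+ (C ⊗[B] C) ⧸ r.range := QuotientAddGroup.lift J.toAddSubgroup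
      (AddMonoidHom.mk' (fun a => QuotientAddGroup.lift J.toAddSubgroup
          (pr.comp (AddMonoidHom.mk' (fun b => a ⊗ₜ[B] b) (fun x y => TensorProduct.tmul_add _ _ _)))
          (fun j hj => (QuotientAddGroup.eq_zero_iff _).2 (hrmem a j hj).2))
        (fun a a' => by
          refine AddMonoidHom.ext fun y => ?_
          obtain ⟨b, rfl⟩ := Ideal.Quotient.mk_surjective y
          show pr _ = pr _ + pr _
          rw [← map_add]
          exact congrArg pr (TensorProduct.add_tmul _ _ _)))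
      (fun j hj => AddMonoidHom.ext fun y => by
        obtain ⟨b, rfl⟩ := Ideal.Quotient.mk_surjective y
        exact (QuotientAddGroup.eq_zero_iff _).2 (hrmem b j hj).1)
    have hχ₀ : ∀ a b, χ₀ (q a) (q b) = pr (a ⊗ₜ[B] b) := fun a b => rfl
    let χ := TensorProduct.liftAddHom (R := B₁) χ₀ fun b x y => by
      obtain ⟨a, rfl⟩ := Ideal.Quotient.mk_surjective x
      obtain ⟨c, rfl⟩ := Ideal.Quotient.mk_surjective y
      obtain ⟨b', rfl⟩ := hρs b
      rw [Algebra.smul_def (ρ b'), Algebra.smul_def (ρ b'), hρ, ← map_mul, ← map_mul, hχ₀, hχ₀,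
        show (b' : C) * a = b' • a from rfl, show (b' : C) * c = b' • c from rfl,
        TensorProduct.tmul_smul, TensorProduct.smul_tmul']
    have hχ : ∀ w, χ (π (φ w)) = pr w := by
      intro w
      induction w using TensorProduct.induction_on with
      | zero => simp
      | add a b ha hb => simp only [map_add, ha, hb]
      | tmul a b =>
        rw [hφ, map_mul, H.π_s, H.π_t, Algebra.TensorProduct.tmul_mul_tmul, _root_.mul_one, _root_.one_mul]
        exact hχ₀ a b
    rw [injective_iff_map_eq_zero]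
    intro x hx
    obtain ⟨z, rfl⟩ : x ∈ r.range := by
      rw [← QuotientAddGroup.eq_zero_iff]
      show pr x = 0
      rw [← hχ, hx, map_zero, map_zero]
    rw [hφr, ← map_zero β] at hx
    rw [hβi hx, map_zero]
  exact (CommRingCat.isPushout_tensorProduct B C C).of_iso (Iso.refl _) (Iso.refl _) (Iso.refl _)
    (RingEquiv.ofBijective φ.toRingHom ⟨hinj, hsurj⟩).toCommRingCatIso (by simp; rfl) (by simp; rfl)
    (by ext c; exact (hφ c 1).trans (by rw [map_one, _root_.mul_one]; rfl))
    (by ext c; exact (hφ 1 c).trans (by rw [map_one, _root_.one_mul]; rfl))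

end Groth.Agent.ArtGrpLib
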