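import Groth.Agent.ArtGrpLib.Pow
import Groth.Agent.GrpQuotLib.CosetScheme
import Groth.Agent.SchDesc.Cover
/-!
A quotient with an affine chart which is effective modulo a nilpotent ideal is affine.
-/

set_option autoImplicit false
set_option backward.isDefEq.respectTransparency false
set_option backward.isDefEq.respectTransparency.types false
set_option linter.style.haveILetI false

universe u

open CategoryTheory CategoryTheory.Limits MonoidalCategory CartesianMonoidalCategory AlgebraicGeometry TensorProduct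

noncomputable section

namespace Groth.Agent.ArtGrpLib

/-- The kernel of a pushout of a surjective ring map. -/
theorem ker_of_isPushout {C D C₁ P : CommRingCat.{u}} {s : C ⟶ D} {r : C ⟶ C₁} {π : D ⟶ P} {σ : C₁ ⟶ P}
    (h : IsPushout s r π σ) (hr : Function.Surjective r.hom) :
    Function.Surjective π.hom ∧ RingHom.ker π.hom = (RingHom.ker r.hom).map s.hom := by
  let I : Ideal D := (RingHom.ker r.hom).map s.hom
  have hle : I ≤ RingHom.ker π.hom := Ideal.map_le_iff_le_comap.2 fun c hc => by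
    show π.hom (s.hom c) = 0
    have := RingHom.congr_fun (congrArg CommRingCat.Hom.hom h.w) c
    simp only [CommRingCat.hom_comp, RingHom.comp_apply] at this
    rw [this, show r.hom c = 0 from hc, map_zero]
  let σ' : C₁ →+* D ⧸ I := RingHom.liftOfRightInverse r.hom (Function.surjInv hr) (Function.surjInv_eq hr)
    ⟨(Ideal.Quotient.mk I).comp s.hom, fun c hc => Ideal.Quotient.eq_zero_iff_mem.2 (Ideal.mem_map_of_mem _ hc)⟩
  have hσ' : σ'.comp r.hom = (Ideal.Quotient.mk I).comp s.hom := RingHom.ext fun c =>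
    RingHom.liftOfRightInverse_comp_apply r.hom (Function.surjInv hr) (Function.surjInv_eq hr)
      ⟨(Ideal.Quotient.mk I).comp s.hom, fun c hc => Ideal.Quotient.eq_zero_iff_mem.2 (Ideal.mem_map_of_mem _ hc)⟩ c
  let inv : P ⟶ CommRingCat.of (D ⧸ I) := h.desc (CommRingCat.ofHom (Ideal.Quotient.mk I)) (CommRingCat.ofHom σ')
    (CommRingCat.hom_ext hσ'.symm)
  let fwd : CommRingCat.of (D ⧸ I) ⟶ P := CommRingCat.ofHom (Ideal.Quotient.lift I π.hom hle)
  have hid : inv ≫ fwd = 𝟙 P := by
    refine h.hom_ext ?_ ?_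
    · rw [h.inl_desc_assoc, Category.comp_id]
      rfl
    · rw [h.inr_desc_assoc, Category.comp_id]
      refine CommRingCat.hom_ext (RingHom.ext fun y => ?_)
      obtain ⟨c, rfl⟩ := hr y
      show Ideal.Quotient.lift I π.hom hle (σ' (r.hom c)) = σ.hom (r.hom c)
      rw [show σ' (r.hom c) = Ideal.Quotient.mk I (s.hom c) from RingHom.congr_fun hσ' c, Ideal.Quotient.lift_mk]
      exact RingHom.congr_fun (congrArg CommRingCat.Hom.hom h.w) c
  refine ⟨fun p => ?_, le_antisymm (fun d hd => ?_) hle⟩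
  · obtain ⟨d, hd⟩ := Ideal.Quotient.mk_surjective (inv.hom p)
    refine ⟨d, ?_⟩
    have h1 : fwd.hom (inv.hom p) = p := RingHom.congr_fun (congrArg CommRingCat.Hom.hom hid) p
    rwa [← hd] at h1
  · have h1 : inv.hom (π.hom d) = Ideal.Quotient.mk I d :=
      RingHom.congr_fun (congrArg CommRingCat.Hom.hom (h.inl_desc _ _ _)) d
    rw [show π.hom d = 0 from hd, map_zero] at h1
    exact Ideal.Quotient.eq_zero_iff_mem.1 h1.symm

open _root_.AlgSp Groth.Agent.ASp

variable {S : Scheme.{u}}

set_option maxHeartbeats 1000000 in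
/-- An affine flat chart, effective modulo a nilpotent ideal, makes the quotient affine. -/
theorem exists_affine_of_thickened_chart {F : Sp S} {U R : Over S} [IsAffine U.left] [IsAffine R.left]
    (p : (yon S).obj U ⟶ F) {t s : R ⟶ U} (sq : IsPullback ((yon S).map t) ((yon S).map s) p p)
    (hpf : RepWith @Flat p) (hpl : RepWith @LocallyOfFinitePresentation p) (hps : RepWith @Surjective p)
    {U₀ R₀ Y₀ : Scheme.{u}} [IsAffine Y₀] (i : U₀ ⟶ U.left) [IsClosedImmersion i]
    (hnil : IsNilpotent (RingHom.ker i.appTop.hom)) (ρ : R₀ ⟶ R.left) (s₀ t₀ : R₀ ⟶ U₀) (q₀ : U₀ ⟶ Y₀)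
    [Flat q₀] [Surjective q₀] (hs₀ : IsPullback ρ s₀ s.left i) (ht₀ : IsPullback ρ t₀ t.left i)
    (hq₀ : IsPullback s₀ t₀ q₀ q₀) :
    ∃ M : Over S, IsAffine M.left ∧ Nonempty ((yon S).obj M ≅ F) := by
  haveI : IsAffine U₀ := isAffine_of_isAffineHom i
  haveI : Flat s.left := hpf.2 _ _ _ sq
  haveI : LocallyOfFinitePresentation s.left := hpl.2 _ _ _ sq
  haveI : IsAffine R₀ := by
    haveI : IsClosedImmersion ρ := MorphismProperty.of_isPullback (P := @IsClosedImmersion) hs₀.flip ‹_›
    exact isAffine_of_isAffineHom ρ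
  -- the rings
  let C := Γ(U.left, ⊤)
  let D := Γ(R.left, ⊤)
  let C₁ := Γ(U₀, ⊤)
  let B₁ := Γ(Y₀, ⊤)
  letI : Algebra B₁ C₁ := q₀.appTop.hom.toAlgebra
  haveI : Module.FaithfullyFlat B₁ C₁ := by
    rw [← RingHom.faithfullyFlat_algebraMap_iff]
    refine RingHom.FaithfullyFlat.iff_flat_and_comap_surjective.2
      ⟨HasRingHomProperty.appTop (P := @Flat) q₀ inferInstance, ?_⟩
    haveI : Surjective (Spec.map q₀.appTop) :=
      (MorphismProperty.arrow_mk_iso_iff @Surjective (arrowIsoSpecΓOfIsAffine q₀)).1 ‹_›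
    exact (Spec.map q₀.appTop).surjective
  let eP := ((CommRingCat.isPushout_tensorProduct B₁ C₁ C₁).isoIsPushout _ _
    (show IsPushout (CommRingCat.ofHom (algebraMap B₁ C₁)) (CommRingCat.ofHom (algebraMap B₁ C₁)) s₀.appTop t₀.appTop
      from isPushout_appTop_of_isPullback hq₀)).commRingCatIsoToRingEquiv
  have he₁ : ∀ c, eP (c ⊗ₜ[B₁] (1 : C₁)) = s₀.appTop.hom c := fun c =>
    RingHom.congr_fun (congrArg CommRingCat.Hom.hom
      ((CommRingCat.isPushout_tensorProduct B₁ C₁ C₁).inl_isoIsPushout_hom _ _ _)) c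
  have he₂ : ∀ c, eP ((1 : C₁) ⊗ₜ[B₁] c) = t₀.appTop.hom c := fun c =>
    RingHom.congr_fun (congrArg CommRingCat.Hom.hom
      ((CommRingCat.isPushout_tensorProduct B₁ C₁ C₁).inr_isoIsPushout_hom _ _ _)) c
  have hpos := (isPushout_appTop_of_isPullback hs₀)
  have hpot := (isPushout_appTop_of_isPullback ht₀)
  have hr : Function.Surjective i.appTop.hom := ((IsClosedImmersion.isAffine_surjective_of_isAffine i)).2
  obtain ⟨hρsurj, hρker⟩ := ker_of_isPushout hpos hr
  obtain ⟨-, hρker'⟩ := ker_of_isPushout hpot hr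
  have hEqv := GrpQuotLib.isEqvRel_of_kernelPair sq
  let mk : ∀ {T : CommRingCat.{u}} (f : D ⟶ T), Over S := fun {T} f =>
    Over.mk (Spec.map f ≫ R.left.isoSpec.inv ≫ R.hom)
  have hspec : ∀ {T : CommRingCat.{u}} (f : D ⟶ T) (v : R.left ⟶ U.left),
      (Spec.map f ≫ R.left.isoSpec.inv) ≫ v = Spec.map (v.appTop ≫ f) ≫ U.left.isoSpec.inv := by
    intro T f v
    rw [Category.assoc, Spec.map_comp, Category.assoc, Scheme.isoSpec_inv_naturality]
  have hwit : ∀ T : Over S, ∀ a : T ⟶ R, a ≫ s ≫ toUnit U = a ≫ toUnit R := fun T a => by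
    rw [toUnit_unique (s ≫ toUnit U) (toUnit R)]
  have hext : ∀ (T : Type u) [CommRing T] (f g : D →+* T), f.comp s.left.appTop.hom = g.comp s.left.appTop.hom →
      f.comp t.left.appTop.hom = g.comp t.left.appTop.hom → f = g := by
    intro T _ f g e1 e2
    let fc : D ⟶ CommRingCat.of T := CommRingCat.ofHom f
    let gc : D ⟶ CommRingCat.of T := CommRingCat.ofHom g
    have es : s.left.appTop ≫ fc = s.left.appTop ≫ gc := CommRingCat.hom_ext e1
    have et : t.left.appTop ≫ fc = t.left.appTop ≫ gc := CommRingCat.hom_ext e2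
    have hg : (Spec.map gc ≫ R.left.isoSpec.inv) ≫ R.hom = Spec.map fc ≫ R.left.isoSpec.inv ≫ R.hom := by
      rw [← Category.assoc (Spec.map fc), ← Over.w s, ← Category.assoc (Spec.map gc ≫ _),
        ← Category.assoc (Spec.map fc ≫ _), hspec, hspec, es]
    let r : mk fc ⟶ R := Over.homMk (Spec.map fc ≫ R.left.isoSpec.inv) (Category.assoc _ _ _)
    let r' : mk fc ⟶ R := Over.homMk (Spec.map gc ≫ R.left.isoSpec.inv) hg
    have h := congrArg CommaMorphism.left (hEqv.injective (mk fc) r r'
      (Over.OverMorphism.ext (by show (Spec.map fc ≫ R.left.isoSpec.inv) ≫ t.left = (Spec.map gc ≫ R.left.isoSpec.inv) ≫ t.left; rw [hspec, hspec, et]))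
      (Over.OverMorphism.ext (by show (Spec.map fc ≫ R.left.isoSpec.inv) ≫ s.left = (Spec.map gc ≫ R.left.isoSpec.inv) ≫ s.left; rw [hspec, hspec, es])))
    have h' : Spec.map fc = Spec.map gc := (cancel_mono R.left.isoSpec.inv).1 h
    exact congrArg CommRingCat.Hom.hom (Spec.map_injective h')
  have htrans : ∀ (T : Type u) [CommRing T] (a b : D →+* T), a.comp t.left.appTop.hom = b.comp s.left.appTop.hom →
      ∃ c : D →+* T, c.comp s.left.appTop.hom = a.comp s.left.appTop.hom ∧
        c.comp t.left.appTop.hom = b.comp t.left.appTop.hom := by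
    intro T _ a b hab
    let ac : D ⟶ CommRingCat.of T := CommRingCat.ofHom a
    let bc : D ⟶ CommRingCat.of T := CommRingCat.ofHom b
    have eab : t.left.appTop ≫ ac = s.left.appTop ≫ bc := CommRingCat.hom_ext hab
    have hb : (Spec.map bc ≫ R.left.isoSpec.inv) ≫ R.hom = Spec.map ac ≫ R.left.isoSpec.inv ≫ R.hom := by
      rw [← Category.assoc (Spec.map ac)]
      conv_lhs => rw [← Over.w s, ← Category.assoc, hspec, ← eab, ← hspec, Category.assoc, Over.w t]
    let r₁ : mk ac ⟶ R := Over.homMk (Spec.map ac ≫ R.left.isoSpec.inv) (Category.assoc _ _ _)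
    let r₂ : mk ac ⟶ R := Over.homMk (Spec.map bc ≫ R.left.isoSpec.inv) hb
    obtain ⟨r, hrt, hrs⟩ := (hEqv.equivalence (mk ac)).trans (x := r₂ ≫ t) (y := r₂ ≫ s) (z := r₁ ≫ s)
      ⟨r₂, rfl, rfl⟩ ⟨r₁, Over.OverMorphism.ext (by
        show (Spec.map ac ≫ R.left.isoSpec.inv) ≫ t.left = (Spec.map bc ≫ R.left.isoSpec.inv) ≫ s.left
        rw [hspec, hspec, eab]), rfl⟩
    let c : D ⟶ CommRingCat.of T := Spec.preimage (r.left ≫ R.left.isoSpec.hom)
    have hc : Spec.map c ≫ R.left.isoSpec.inv = r.left := by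
      rw [Spec.map_preimage, Category.assoc, Iso.hom_inv_id, Category.comp_id]
    have hcs : s.left.appTop ≫ c = s.left.appTop ≫ ac := Spec.map_injective ((cancel_mono U.left.isoSpec.inv).1 (by
      rw [← hspec, ← hspec, hc]; exact congrArg CommaMorphism.left hrs))
    have hct : t.left.appTop ≫ c = t.left.appTop ≫ bc := Spec.map_injective ((cancel_mono U.left.isoSpec.inv).1 (by
      rw [← hspec, ← hspec, hc]; exact congrArg CommaMorphism.left hrt))
    exact ⟨c.hom, congrArg CommRingCat.Hom.hom hcs, congrArg CommRingCat.Hom.hom hct⟩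
  obtain ⟨δ, hδt, hδs⟩ := (hEqv.equivalence U).refl (𝟙 U)
  have hdatum : Datum (B₁ := B₁) (C₁ := C₁) s.left.appTop.hom t.left.appTop.hom i.appTop.hom
      (eP.symm.toRingHom.comp ρ.appTop.hom) :=
    { r_surj := hr
      map_eq := hρker.symm.trans hρker'
      flat := HasRingHomProperty.appTop (P := @Flat) s.left inferInstance
      π_s := fun c => eP.injective ((eP.apply_symm_apply _).trans
        ((RingHom.congr_fun (congrArg CommRingCat.Hom.hom hpos.w) c).trans (he₁ _).symm))
      π_t := fun c => eP.injective ((eP.apply_symm_apply _).trans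
        ((RingHom.congr_fun (congrArg CommRingCat.Hom.hom hpot.w) c).trans (he₂ _).symm))
      π_surj := eP.symm.surjective.comp hρsurj
      π_ker := by rw [RingHom.ker_equiv_comp]; exact hρker
      ext_hom := hext
      diag := ⟨δ.left.appTop.hom,
        congrArg CommRingCat.Hom.hom (show s.left.appTop ≫ δ.left.appTop = 𝟙 _ by
          rw [← Scheme.Hom.comp_appTop, ← Over.comp_left, hδs]; rfl),
        congrArg CommRingCat.Hom.hom (show t.left.appTop ≫ δ.left.appTop = 𝟙 _ by
          rw [← Scheme.Hom.comp_appTop, ← Over.comp_left, hδt]; rfl)⟩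
      trans := htrans }
  obtain ⟨N, hN⟩ := hnil
  obtain ⟨B, _, f, hf, hpo⟩ := effective_of_pow_eq_bot N hdatum (by rw [pow_succ, hN]; simp)
  -- the affine quotient
  let Q : Scheme.{u} := Spec (CommRingCat.of B)
  let q : U.left ⟶ Q := U.left.isoSpec.hom ≫ Spec.map (CommRingCat.ofHom f)
  have hq : IsPullback t.left s.left q q := by
    have h1 := (isPullback_SpecMap_of_isPushout _ _ _ _ hpo).flip
    refine IsPullback.of_iso h1 R.left.isoSpec.symm U.left.isoSpec.symm U.left.isoSpec.symm (Iso.refl _) ?_ ?_ ?_ ?_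
    · simp only [Iso.symm_hom]; exact Scheme.isoSpec_inv_naturality t.left
    · simp only [Iso.symm_hom]; exact Scheme.isoSpec_inv_naturality s.left
    · simp [q]
    · simp [q]
  haveI : Flat (Spec.map (CommRingCat.ofHom f)) := HasRingHomProperty.Spec_iff.2 hf.flat
  haveI : Surjective (Spec.map (CommRingCat.ofHom f)) :=
    ⟨(RingHom.FaithfullyFlat.iff_flat_and_comap_surjective.1 hf).2⟩
  haveI : Flat q := inferInstanceAs (Flat (U.left.isoSpec.hom ≫ Spec.map (CommRingCat.ofHom f)))
  haveI : Surjective q := inferInstanceAs (Surjective (U.left.isoSpec.hom ≫ Spec.map (CommRingCat.ofHom f)))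
  haveI : QuasiCompact q := inferInstance
  haveI : LocallyOfFinitePresentation q :=
    MorphismProperty.of_isPullback_of_descendsAlong (Q := @Surjective ⊓ @Flat ⊓ @QuasiCompact)
      (P := @LocallyOfFinitePresentation) hq.flip ⟨⟨‹_›, ‹_›⟩, ‹_›⟩ ‹LocallyOfFinitePresentation s.left›
  haveI : SchDesc.IsFpqc q := SchDesc.IsFpqc.of_locallyOfFinitePresentation q
  let strM : Q ⟶ S := EffectiveEpi.desc q U.hom fun {T} a b e => by
    obtain ⟨l, hlt, hls⟩ := hq.exists_lift a b e
    rw [← hlt, ← hls, Category.assoc, Category.assoc, Over.w t, Over.w s]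
  have hstr : q ≫ strM = U.hom := EffectiveEpi.fac _ _ _
  let M : Over S := Over.mk strM
  let qM : U ⟶ M := Over.homMk q hstr
  haveI : Flat qM.left := ‹Flat q›
  haveI : Surjective qM.left := ‹Surjective q›
  haveI : LocallyOfFinitePresentation qM.left := ‹LocallyOfFinitePresentation q›
  haveI : Epi p := by
    haveI : Sheaf.IsLocallySurjective p := isLocallySurjective_of_repWith hpf hpl hps
    infer_instance
  haveI : Epi ((yon S).map qM) := by
    haveI : Sheaf.IsLocallySurjective ((yon S).map qM) := isLocallySurjective_of_repWith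
      (repWith_yon_map (P := @Flat) (g := qM) ‹_›)
      (repWith_yon_map (P := @LocallyOfFinitePresentation) (g := qM) ‹_›)
      (repWith_yon_map (P := @Surjective) (g := qM) ‹_›)
    infer_instance
  have hqM : IsPullback ((yon S).map t) ((yon S).map s) ((yon S).map qM) ((yon S).map qM) :=
    isPullback_yon_map (IsPullback.of_map (Over.forget S) (Over.OverMorphism.ext hq.w) hq)
  obtain ⟨m, hm⟩ := exists_desc_of_epi p sq ((yon S).map qM) hqM.w
  obtain ⟨n, hn⟩ := exists_desc_of_epi ((yon S).map qM) hqM p sq.w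
  exact ⟨M, inferInstanceAs (IsAffine (Spec (CommRingCat.of B))), ⟨{
    hom := n, inv := m
    hom_inv_id := by rw [← cancel_epi ((yon S).map qM), reassoc_of% hn, hm, Category.comp_id]
    inv_hom_id := by rw [← cancel_epi p, reassoc_of% hm, hn, Category.comp_id] }⟩⟩

end Groth.Agent.ArtGrpLib
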