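import Groth.Agent.ArtGrpLib.CosetScheme
import Groth.Agent.ArtGrpLib.ThickQuot
/-!
The quotient of a group scheme over an Artinian local ring by a flat closed subgroup.
-/

set_option backward.isDefEq.respectTransparency false
set_option backward.isDefEq.respectTransparency.types false
set_option linter.style.haveILetI false

universe u

open CategoryTheory CategoryTheory.Limits MonoidalCategory CartesianMonoidalCategory MonObj AlgebraicGeometry

noncomputable section

namespace Groth.Agent.ArtGrpLib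

open _root_.AlgSp Groth.Agent.ASp

variable {A : Type u} [CommRing A] [IsArtinianRing A] [IsLocalRing A]

/-- Transposition to the closed fibre is compatible with products. -/
theorem transpose_mul {G : Over (Spec (CommRingCat.of A))} [GrpObj G]
    {T₀ : Over (Spec (CommRingCat.of (IsLocalRing.ResidueField A)))} (x y : (Over.map (jRed A)).obj T₀ ⟶ G) :
    (Over.mapPullbackAdj (jRed A)).homEquiv _ _ (x * y) =
      (Over.mapPullbackAdj (jRed A)).homEquiv _ _ x * (Over.mapPullbackAdj (jRed A)).homEquiv _ _ y := by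
  rw [Adjunction.homEquiv_unit, Adjunction.homEquiv_unit, Adjunction.homEquiv_unit, Functor.map_mul, MonObj.comp_mul]

variable {H G : Over (Spec (CommRingCat.of A))} [GrpObj H] [GrpObj G]

/-- The closed fibre of the coset relation on a scheme over the group is the relation of the closed fibre. -/
theorem isPullback_red (u : H ⟶ G) {F : Sp (Spec (CommRingCat.of A))} (p : (yon _).obj G ⟶ F)
    (hpb : IsPullback ((yon _).map (cosetT u)) ((yon _).map (snd H G)) p p)
    {X₀ : Over (Spec (CommRingCat.of (IsLocalRing.ResidueField A)))} (q₀ : red G ⟶ X₀)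
    (hq : IsPullback (cosetT ((Over.pullback (jRed A)).map u)) (snd (red H) (red G)) q₀ q₀)
    {U R : Over (Spec (CommRingCat.of A))} (φ : U ⟶ G) {t s : R ⟶ U}
    (sq : IsPullback ((yon _).map t) ((yon _).map s) ((yon _).map φ ≫ p) ((yon _).map φ ≫ p)) :
    IsPullback ((Over.pullback (jRed A)).map t) ((Over.pullback (jRed A)).map s)
      ((Over.pullback (jRed A)).map φ ≫ q₀) ((Over.pullback (jRed A)).map φ ≫ q₀) := by
  let P := Over.pullback (jRed A)
  let adj := Over.mapPullbackAdj (jRed A)
  obtain ⟨h, hh⟩ : ∃ h : R ⟶ H, t ≫ φ = (h ≫ u) * (s ≫ φ) := by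
    have e : (yon _).map (t ≫ φ) ≫ p = (yon _).map (s ≫ φ) ≫ p := by
      rw [Functor.map_comp, Functor.map_comp, Category.assoc, Category.assoc, sq.w]
    obtain ⟨r, hr⟩ := (yon _).map_surjective (hpb.lift _ _ e)
    have h1 : r ≫ cosetT u = t ≫ φ := (yon _).map_injective (by rw [Functor.map_comp, hr, hpb.lift_fst])
    have h2 : r ≫ snd H G = s ≫ φ := (yon _).map_injective (by rw [Functor.map_comp, hr, hpb.lift_snd])
    refine ⟨r ≫ fst H G, ?_⟩
    rw [← h1, ← h2, ← lift_cosetT, ← comp_lift, lift_fst_snd, Category.comp_id]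
  have w : P.map t ≫ P.map φ ≫ q₀ = P.map s ≫ P.map φ ≫ q₀ := by
    have e1 : lift (P.map h) (P.map (s ≫ φ)) ≫ cosetT (P.map u) = P.map (t ≫ φ) := by
      rw [lift_cosetT, ← Functor.map_comp, ← Functor.map_mul, hh]
    rw [← Functor.map_comp_assoc, ← Functor.map_comp_assoc, ← e1, Category.assoc, hq.w, lift_snd_assoc]
  have hnat : ∀ {T₀ : Over (Spec (CommRingCat.of (IsLocalRing.ResidueField A)))} {B C : Over (Spec (CommRingCat.of A))}
      (x : T₀ ⟶ P.obj B) (f : B ⟶ C),
      (adj.homEquiv _ _).symm (x ≫ P.map f) = (adj.homEquiv _ _).symm x ≫ f :=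
    fun x f => adj.homEquiv_naturality_right_symm x f
  have hlift : ∀ c : PullbackCone (P.map φ ≫ q₀) (P.map φ ≫ q₀), ∃ l : c.pt ⟶ P.obj R,
      l ≫ P.map t = c.fst ∧ l ≫ P.map s = c.snd := by
    intro c
    obtain ⟨r₀, hr₁, hr₂⟩ := hq.exists_lift (c.fst ≫ P.map φ) (c.snd ≫ P.map φ)
      (by rw [Category.assoc, Category.assoc]; exact c.condition)
    let x := (adj.homEquiv _ _).symm c.fst
    let y := (adj.homEquiv _ _).symm c.snd
    let h' := (adj.homEquiv _ _).symm (r₀ ≫ fst (red H) (red G))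
    have key : x ≫ φ = (h' ≫ u) * (y ≫ φ) := by
      apply (adj.homEquiv _ _).injective
      rw [transpose_mul]
      rw [adj.homEquiv_naturality_right, adj.homEquiv_naturality_right, adj.homEquiv_naturality_right]
      simp only [x, y, h', Equiv.apply_symm_apply]
      rw [← hr₁, ← hr₂, ← lift_cosetT, ← comp_lift, lift_fst_snd, Category.comp_id]
    have e : (yon _).map x ≫ (yon _).map φ ≫ p = (yon _).map y ≫ (yon _).map φ ≫ p := by
      rw [← Functor.map_comp_assoc, ← Functor.map_comp_assoc, key, ← lift_cosetT, Functor.map_comp,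
        Category.assoc, hpb.w, ← Functor.map_comp_assoc, lift_snd]
    obtain ⟨r, hr⟩ := (yon _).map_surjective (sq.lift _ _ e)
    have e1 : r ≫ t = x := (yon _).map_injective (by rw [Functor.map_comp, hr, sq.lift_fst])
    have e2 : r ≫ s = y := (yon _).map_injective (by rw [Functor.map_comp, hr, sq.lift_snd])
    refine ⟨adj.homEquiv _ _ r, ?_, ?_⟩
    · rw [← adj.homEquiv_naturality_right, e1]; exact Equiv.apply_symm_apply _ _
    · rw [← adj.homEquiv_naturality_right, e2]; exact Equiv.apply_symm_apply _ _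
  choose l hl₁ hl₂ using hlift
  refine IsPullback.of_isLimit' ⟨w⟩ (PullbackCone.IsLimit.mk _ l hl₁ hl₂ fun c m h1 h2 => ?_)
  apply (adj.homEquiv _ _).symm.injective
  refine (yon _).map_injective (sq.hom_ext ?_ ?_)
  · rw [← Functor.map_comp, ← Functor.map_comp, ← hnat, ← hnat, h1, hl₁]
  · rw [← Functor.map_comp, ← Functor.map_comp, ← hnat, ← hnat, h2, hl₂]

/-- The base change square of a morphism. -/
theorem isPullback_redPr {U R : Over (Spec (CommRingCat.of A))} (f : R ⟶ U) :
    IsPullback (redPr R) ((Over.pullback (jRed A)).map f).left f.left (redPr U) := by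
  refine IsPullback.of_bot ?_ (show redPr R ≫ f.left = ((Over.pullback (jRed A)).map f).left ≫ redPr U from
    (pullback.lift_fst _ _ _).symm) (IsPullback.of_hasPullback U.hom (jRed A))
  rw [Over.w f]
  rw [show ((Over.pullback (jRed A)).map f).left ≫ pullback.snd U.hom (jRed A) = pullback.snd R.hom (jRed A) from
    pullback.lift_snd _ _ _]
  exact IsPullback.of_hasPullback _ _

/-- Two points have the same coset exactly when their reductions do. -/
theorem ofPt_eq_iff (u : H ⟶ G) {F : Sp (Spec (CommRingCat.of A))} (p : (yon _).obj G ⟶ F)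
    (hpb : IsPullback ((yon _).map (cosetT u)) ((yon _).map (snd H G)) p p)
    {X₀ : Over (Spec (CommRingCat.of (IsLocalRing.ResidueField A)))} (q₀ : red G ⟶ X₀)
    (hq : IsPullback (cosetT ((Over.pullback (jRed A)).map u)) (snd (red H) (red G)) q₀ q₀)
    (g g' : (red G).left) :
    Points.ofPt p (redPr G g) = Points.ofPt p (redPr G g') ↔ q₀.left g = q₀.left g' := by
  have hR := isPullback_red u p hpb q₀ hq (𝟙 G) (t := cosetT u) (s := snd H G) (by simpa using hpb)
  rw [CategoryTheory.Functor.map_id, Category.id_comp] at hR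
  constructor
  · intro e
    obtain ⟨z₁, h1, h2⟩ := points_exists_of_isPullback hpb (Points.schemeHomeo G (redPr G g))
      (Points.schemeHomeo G (redPr G g')) (by
        rw [Points.ofPt_eq_map_ofScheme, Points.ofPt_eq_map_ofScheme] at e; exact e)
    obtain ⟨z, rfl⟩ := (Points.schemeHomeo (H ⊗ G)).surjective z₁
    rw [Points.map_yon_map_apply] at h1 h2
    have h1 := (Points.schemeHomeo G).injective h1
    have h2 := (Points.schemeHomeo G).injective h2
    obtain ⟨z, rfl⟩ := (redPr (H ⊗ G)).surjective z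
    rw [← redPr_map] at h1 h2
    rw [← (redPr G).isEmbedding.injective h1, ← (redPr G).isEmbedding.injective h2, ← Scheme.Hom.comp_apply,
      ← Scheme.Hom.comp_apply, ← Over.comp_left, ← Over.comp_left, hR.w]
  · intro e
    have hl := GrpQuotLib.isPullback_left hR
    obtain ⟨z', h1, h2⟩ := Scheme.Pullback.exists_preimage_pullback g g' e
    rw [← hl.isoPullback_inv_fst, Scheme.Hom.comp_apply] at h1
    rw [← hl.isoPullback_inv_snd, Scheme.Hom.comp_apply] at h2
    obtain ⟨z, hz⟩ : ∃ z, hl.isoPullback.inv z' = z := ⟨_, rfl⟩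
    rw [hz] at h1 h2
    rw [← h1, ← h2, redPr_map, redPr_map, ← ofPt_yon_map_comp, ← ofPt_yon_map_comp, hpb.w]

set_option maxHeartbeats 1000000 in
/-- Over an affine open of the quotient of the closed fibre the space of cosets is affine. -/
theorem exists_affine_subSp [LocallyOfFiniteType G.hom] (u : H ⟶ G) {F : Sp (Spec (CommRingCat.of A))}
    (p : (yon _).obj G ⟶ F) (hsep : IsSeparatedSp F) (hpf : RepWith @Flat p)
    (hpl : RepWith @LocallyOfFinitePresentation p) (hps : RepWith @Surjective p)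
    (hpb : IsPullback ((yon _).map (cosetT u)) ((yon _).map (snd H G)) p p)
    {X₀ : Over (Spec (CommRingCat.of (IsLocalRing.ResidueField A)))} (q₀ : red G ⟶ X₀)
    [Flat q₀.left] [LocallyOfFinitePresentation q₀.left] [Surjective q₀.left]
    (hq : IsPullback (cosetT ((Over.pullback (jRed A)).map u)) (snd (red H) (red G)) q₀ q₀)
    {V₀ : X₀.left.Opens} (hV : IsAffineOpen V₀) :
    ∃ (M : Over (Spec (CommRingCat.of A))) (j : (yon _).obj M ⟶ F), IsAffine M.left ∧ RepWith @IsOpenImmersion j ∧
      Set.range (Points.map j) = Points.ofPt p '' (redPr G '' (q₀.left ⁻¹' V₀)) := by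
  let W' : G.left.Opens := ⟨redPr G '' (q₀.left ⁻¹' V₀),
    (redHomeo G).isOpenMap _ (V₀.2.preimage q₀.left.continuous)⟩
  let O : Set (Points F) := Points.ofPt p '' W'
  have hO : IsOpen O := isOpenMap_ofPt p hpf hpl _ W'.2
  have hU : ∀ w : ↥(q₀.left ⁻¹ᵁ V₀ : Scheme), ∃ U : G.left.Opens, IsAffineOpen U ∧ redPr G w.1 ∈ U ∧ U ≤ W' :=
    fun w => exists_isAffineOpen_mem_and_subset (U := W') ⟨w.1, w.2, rfl⟩
  choose Uw hUa hUw hUW using hU
  obtain ⟨I, hI⟩ := hV.isCompact.elim_finite_subcover (fun w => q₀.left '' (redPr G ⁻¹' Uw w))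
    (fun w => q₀.left.isOpenMap _ ((Uw w).2.preimage (redPr G).continuous)) (fun v hv => by
      obtain ⟨g, rfl⟩ := q₀.left.surjective v
      exact Set.mem_iUnion.2 ⟨⟨g, hv⟩, g, hUw ⟨g, hv⟩, rfl⟩)
  let Us : Scheme.{u} := ∐ fun i : ↥I => (Uw i.1 : Scheme)
  haveI : ∀ i : ↥I, IsAffine (Uw i.1 : Scheme) := fun i => hUa i.1
  let d : Us ⟶ G.left := Sigma.desc fun i : ↥I => (Uw i.1).ι
  haveI : Flat d := IsZariskiLocalAtSource.sigmaDesc (P := @Flat) fun i => inferInstance
  haveI : LocallyOfFinitePresentation d :=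
    IsZariskiLocalAtSource.sigmaDesc (P := @LocallyOfFinitePresentation) fun i => inferInstance
  have hd : Set.range d = ⋃ i : ↥I, (Uw i.1 : Set G.left) := by
    ext g
    simp only [Set.mem_range, Set.mem_iUnion]
    constructor
    · rintro ⟨z, rfl⟩
      obtain ⟨⟨i, x⟩, rfl⟩ := (sigmaMk fun i : ↥I => (Uw i.1 : Scheme)).surjective z
      refine ⟨i, ?_⟩
      rw [sigmaMk_mk, ← Scheme.Hom.comp_apply, Sigma.ι_desc]
      exact x.2
    · rintro ⟨i, hi⟩
      refine ⟨Sigma.ι (fun i : ↥I => (Uw i.1 : Scheme)) i ⟨g, hi⟩, ?_⟩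
      rw [← Scheme.Hom.comp_apply, Sigma.ι_desc]
      rfl
  let U : Over (Spec (CommRingCat.of A)) := Over.mk (d ≫ G.hom)
  let φ : U ⟶ G := Over.homMk d rfl
  haveI : IsAffine U.left := inferInstanceAs (IsAffine Us)
  have hφW : ∀ z : U.left, φ.left z ∈ W' := by
    intro z
    obtain ⟨i, hi⟩ := Set.mem_iUnion.1 (hd.le ⟨z, rfl⟩)
    exact hUW i.1 hi
  let a := (yon _).map φ ≫ p
  have haf : RepWith @Flat a := repWith_comp (repWith_yon_map (P := @Flat) (g := φ) ‹Flat d›) hpf
  have hal : RepWith @LocallyOfFinitePresentation a :=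
    repWith_comp (repWith_yon_map (P := @LocallyOfFinitePresentation) (g := φ) ‹LocallyOfFinitePresentation d›) hpl
  obtain ⟨R, t, s, sq⟩ := exists_isPullback_yon haf.1 a
  haveI : IsAffine (U ⊗ U).left := inferInstanceAs (IsAffine (pullback U.hom U.hom))
  have sqd := Groth.Agent.Boot.isPullback_diag_kernelPair a sq ((yon _).map (lift t s))
    (q₁ := (yon _).map (fst U U)) (q₂ := (yon _).map (snd U U))
    (by rw [← Functor.map_comp, lift_fst]) (by rw [← Functor.map_comp, lift_snd]) hom_ext_yon_tensor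
  haveI : IsClosedImmersion (lift t s).left := hsep.2 _ _ _ sqd
  haveI : IsAffine R.left := isAffine_of_isAffineHom (lift t s).left
  -- the chart of the open subspace
  obtain ⟨a', ha'⟩ := exists_lift_subι F O a fun z => by
    rw [ofPt_yon_map_comp]
    exact ⟨_, hφW z, rfl⟩
  have hsqa : IsPullback (𝟙 _) a' a (subι F O) := by
    refine IsPullback.of_isLimit' ⟨by rw [Category.id_comp, ha']⟩ (PullbackCone.IsLimit.mk _ (fun c => c.fst)
      (fun c => Category.comp_id _) (fun c => ?_) (fun c m h1 _ => by simpa using h1))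
    rw [← cancel_mono (subι F O), Category.assoc, ha', c.condition]
  have haf' : RepWith @Flat a' := repWith_of_isPullback hsqa haf
  have hal' : RepWith @LocallyOfFinitePresentation a' := repWith_of_isPullback hsqa hal
  have has' : RepWith @Surjective a' := by
    rw [repWith_surjective_iff haf'.1]
    intro y
    obtain ⟨w, ⟨g, hg, rfl⟩, hw⟩ := (range_map_subι F O).le ⟨y, rfl⟩
    obtain ⟨i, hi, g', hg', e⟩ : ∃ i ∈ I, q₀.left g ∈ q₀.left '' (redPr G ⁻¹' Uw i) := by
      simpa using hI hg
    obtain ⟨z, hz⟩ := hd.ge (Set.mem_iUnion.2 ⟨⟨i, hi⟩, hg'⟩)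
    refine ⟨Points.schemeHomeo U z, injective_map_of_repWith (P := @IsOpenImmersion)
      (fun g hg => haveI : IsOpenImmersion g := hg; g.isOpenEmbedding.injective) (repWith_subι F O hO) ?_⟩
    rw [← hw, ← (ofPt_eq_iff u p hpb q₀ hq g' g).2 e, ← Points.map_comp, ha', ← hz,
      Points.ofPt_eq_map_ofScheme]
    rw [Points.map_comp, Points.map_yon_map_apply]
    rfl
  have sq' : IsPullback ((yon _).map t) ((yon _).map s) a' a' := by
    refine IsPullback.of_isLimit' ⟨by rw [← cancel_mono (subι F O), Category.assoc, Category.assoc, ha', sq.w]⟩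
      (PullbackCone.IsLimit.mk _ (fun c => sq.lift c.fst c.snd (by rw [← ha', reassoc_of% c.condition]))
        (fun c => sq.lift_fst _ _ _) (fun c => sq.lift_snd _ _ _) (fun c m h1 h2 => sq.hom_ext
          (h1.trans (sq.lift_fst _ _ _).symm) (h2.trans (sq.lift_snd _ _ _).symm)))
  -- the closed fibre
  haveI : IsAffine (V₀ : Scheme) := hV
  have hr := GrpQuotLib.isPullback_left (isPullback_red u p hpb q₀ hq φ sq)
  let qU := ((Over.pullback (jRed A)).map φ ≫ q₀).left
  have hrange : Set.range qU = V₀ := by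
    ext v
    constructor
    · rintro ⟨z, rfl⟩
      obtain ⟨g, hg, e⟩ := hφW (redPr U z)
      rw [← redPr_map] at e
      show q₀.left (((Over.pullback (jRed A)).map φ).left z) ∈ V₀
      rw [← (redPr G).isEmbedding.injective e]
      exact hg
    · intro hv
      obtain ⟨i, hi, g', hg', e⟩ : ∃ i ∈ I, v ∈ q₀.left '' (redPr G ⁻¹' Uw i) := by simpa using hI hv
      obtain ⟨z, hz⟩ := hd.ge (Set.mem_iUnion.2 ⟨⟨i, hi⟩, hg'⟩)
      obtain ⟨z, rfl⟩ := (redPr U).surjective z
      refine ⟨z, ?_⟩
      show q₀.left (((Over.pullback (jRed A)).map φ).left z) = v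
      rw [← e]
      refine congrArg q₀.left ((redPr G).isEmbedding.injective ?_)
      rw [redPr_map]
      exact hz
  let qV : (red U).left ⟶ V₀ := IsOpenImmersion.lift V₀.ι qU (by rw [Scheme.Opens.range_ι, hrange])
  have hqV : qV ≫ V₀.ι = qU := IsOpenImmersion.lift_fac _ _ _
  haveI : Flat qU := by
    haveI : Flat ((Over.pullback (jRed A)).map φ).left :=
      MorphismProperty.of_isPullback (P := @Flat) (isPullback_redPr φ) ‹Flat d›
    exact inferInstanceAs (Flat (((Over.pullback (jRed A)).map φ).left ≫ q₀.left))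
  have hsqV : IsPullback (𝟙 _) qV qU V₀.ι :=
    IsPullback.of_isLimit' ⟨by rw [Category.id_comp, hqV]⟩ (PullbackCone.IsLimit.mk _ (fun c => c.fst)
      (fun c => Category.comp_id _) (fun c => by rw [← cancel_mono V₀.ι, Category.assoc, hqV, c.condition])
      (fun c m h1 _ => by simpa using h1))
  haveI : Flat qV := MorphismProperty.of_isPullback (P := @Flat) hsqV ‹_›
  haveI : Surjective qV := ⟨fun v => by
    obtain ⟨z, hz⟩ := hrange.ge v.2
    refine ⟨z, V₀.ι.isOpenEmbedding.injective ?_⟩
    rw [← Scheme.Hom.comp_apply, hqV, hz]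
    rfl⟩
  have hq₀ : IsPullback ((Over.pullback (jRed A)).map t).left ((Over.pullback (jRed A)).map s).left qV qV := by
    refine IsPullback.of_isLimit' ⟨by rw [← cancel_mono V₀.ι, Category.assoc, Category.assoc, hqV]; exact hr.w⟩
      (PullbackCone.IsLimit.mk _ (fun c => hr.lift c.fst c.snd (by
          show c.fst ≫ qU = c.snd ≫ qU
          rw [← hqV, reassoc_of% c.condition]))
        (fun c => hr.lift_fst _ _ _) (fun c => hr.lift_snd _ _ _) (fun c m h1 h2 => hr.hom_ext
          (h1.trans (hr.lift_fst _ _ _).symm) (h2.trans (hr.lift_snd _ _ _).symm)))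
  have hnil : IsNilpotent (RingHom.ker (redPr U).appTop.hom) := by
    obtain ⟨N, hN⟩ := (IsArtinianRing.isNilpotent_jacobson_bot (R := A))
    rw [IsLocalRing.jacobson_eq_maximalIdeal _ (bot_ne_top)] at hN
    have hpo := isPushout_appTop_of_isPullback (IsPullback.of_hasPullback U.hom (jRed A))
    have hj : Function.Surjective (jRed A).appTop.hom := (IsClosedImmersion.isAffine_surjective_of_isAffine (jRed A)).2
    obtain ⟨-, hker⟩ := ker_of_isPushout hpo hj
    refine ⟨N, ?_⟩
    rw [hker, ← Ideal.map_pow]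
    have : RingHom.ker (jRed A).appTop.hom ≤
        (IsLocalRing.maximalIdeal A).comap (Scheme.ΓSpecIso (CommRingCat.of A)).hom.hom := by
      intro c hc
      have h := RingHom.congr_fun (congrArg CommRingCat.Hom.hom
        (Scheme.ΓSpecIso_naturality (CommRingCat.ofHom (IsLocalRing.residue A)))) c
      simp only [CommRingCat.hom_comp, RingHom.comp_apply] at h
      rw [show (jRed A).appTop.hom c = 0 from hc, map_zero] at h
      exact Ideal.mem_comap.2 ((IsLocalRing.residue_eq_zero_iff _).1 h.symm)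
    refine eq_bot_iff.2 (le_trans (Ideal.map_mono (Ideal.pow_right_mono this N)) ?_)
    rw [Ideal.map_le_iff_le_comap]
    intro c hc
    have h2 := Ideal.le_comap_pow _ N hc
    rw [Ideal.mem_comap, hN, Ideal.zero_eq_bot, Ideal.mem_bot] at h2
    rw [Ideal.mem_comap, Ideal.mem_bot]
    rw [show c = 0 from (Scheme.ΓSpecIso (CommRingCat.of A)).commRingCatIsoToRingEquiv.injective (h2.trans (map_zero _).symm),
      map_zero]
  haveI : IsAffine (red U).left := isAffine_of_isAffineHom (redPr U)
  obtain ⟨M, hM, ⟨e⟩⟩ := exists_affine_of_thickened_chart a' sq' haf' hal' has' (redPr U) hnil (redPr R)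
    ((Over.pullback (jRed A)).map s).left ((Over.pullback (jRed A)).map t).left qV (isPullback_redPr s)
    (isPullback_redPr t) hq₀.flip
  refine ⟨M, e.hom ≫ subι F O, hM, repWith_comp (repWith_of_isIso _) (repWith_subι F O hO), ?_⟩
  refine Set.eq_of_subset_of_subset ?_ fun y hy => ?_
  · rintro _ ⟨w, rfl⟩
    rw [Points.map_comp]
    exact (range_map_subι F O).le ⟨_, rfl⟩
  · obtain ⟨w, hw⟩ := (range_map_subι F O).ge hy
    exact ⟨Points.map e.inv w, by rw [← Points.map_comp, e.inv_hom_id_assoc, hw]⟩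

/-- The quotient of a group scheme over an Artinian local ring by a flat closed subgroup is a scheme. -/
theorem exists_quotient_sub [LocallyOfFiniteType G.hom] [Flat H.hom] (u : H ⟶ G) [IsMonHom u] [IsClosedImmersion u.left] :
    ∃ (X : Over (Spec (CommRingCat.of A))) (q : G ⟶ X), IsSeparated X.hom ∧ LocallyOfFiniteType X.hom ∧
      Surjective q.left ∧ Flat q.left ∧ LocallyOfFinitePresentation q.left ∧
      IsPullback ((u ▷ G) ≫ μ[G]) (snd H G) q q ∧
      (Flat G.hom → Flat X.hom) ∧ (QuasiCompact G.hom → QuasiCompact X.hom) ∧ (Smooth G.hom → Smooth X.hom) := by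
  haveI : LocallyOfFiniteType H.hom := by rw [← Over.w u]; infer_instance
  haveI : LocallyOfFinitePresentation H.hom :=
    LocallyOfFinitePresentation.iff_locallyOfFiniteType.mpr inferInstance
  obtain ⟨F, p, hF, hsep, _, hpb, hpf, hpl, hps⟩ := exists_coset_space u
  haveI : IsClosedImmersion ((Over.pullback (jRed A)).map u).left :=
    MorphismProperty.of_isPullback (P := @IsClosedImmersion) (isPullback_redPr u) ‹_›
  haveI : Flat (red G).hom := MonoFibre.flat_to_spec_field
  haveI : Flat (red H).hom := MonoFibre.flat_to_spec_field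
  obtain ⟨X₀, q₀, -, -, hq₀s, hq₀f, hq₀p, hq₀, -, -⟩ :=
    exists_quotient (red H) (red G) ((Over.pullback (jRed A)).map u)
  haveI := hq₀s
  haveI := hq₀f
  haveI := hq₀p
  have hnhd : ∀ x : X₀.left, ∃ (M : Over (Spec (CommRingCat.of A))) (j : (yon _).obj M ⟶ F),
      RepWith @IsOpenImmersion j ∧ ∀ g, q₀.left g = x → Points.ofPt p (redPr G g) ∈ Set.range (Points.map j) := by
    intro x
    obtain ⟨V₀, hV, hxV, -⟩ := exists_isAffineOpen_mem_and_subset (X := X₀.left) (x := x) (U := ⊤) trivial
    obtain ⟨M, j, -, hj, hr⟩ := exists_affine_subSp u p hsep hpf hpl hps hpb q₀ hq₀ hV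
    exact ⟨M, j, hj, fun g hg => hr ▸ ⟨_, ⟨g, show q₀.left g ∈ V₀ from hg ▸ hxV, rfl⟩, rfl⟩⟩
  choose M j hj hjx using hnhd
  obtain ⟨X, ⟨e⟩⟩ := exists_scheme_of_openCover hF M j hj fun z => by
    obtain ⟨y, rfl⟩ := surjective_ofPt hps z
    obtain ⟨g, rfl⟩ := (redPr G).surjective y
    exact ⟨q₀.left g, hjx _ g rfl⟩
  let q : G ⟶ X := (yon _).preimage (p ≫ e.inv)
  have hq : (yon _).map q = p ≫ e.inv := (yon _).map_preimage _
  have hsq : IsPullback (𝟙 _) ((yon _).map q) p e.hom := IsPullback.of_horiz_isIso ⟨by simp [hq]⟩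
  have hmul : ∀ {Q : MorphismProperty Scheme.{u}} [Q.IsStableUnderBaseChange],
      RepWith Q p → Q q.left := fun {Q} _ hQ =>
    (repWith_yon_map_iff Q q).1 (repWith_of_isPullback hsq hQ)
  haveI : Surjective q.left := hmul hps
  haveI : Flat q.left := hmul hpf
  haveI : LocallyOfFinitePresentation q.left := hmul hpl
  haveI : LocallyOfFiniteType (q.left ≫ X.hom) := by rw [Over.w q]; infer_instance
  haveI : LocallyOfFinitePresentation (q.left ≫ X.hom) :=
    LocallyOfFinitePresentation.iff_locallyOfFiniteType.mpr inferInstance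
  haveI : LocallyOfFinitePresentation X.hom :=
    FppfSrc.locallyOfFinitePresentation_of_precomp_fppf q.left X.hom
  have hsepX : IsSeparated X.hom := by
    rw [isSeparated_iff, ← repWith_diag_yon_iff @IsClosedImmersion X]
    refine repWith_of_isPullback (f := Limits.diag F) (g' := e.hom) (g := prod.map e.hom e.hom) ?_ hsep
    exact IsPullback.of_horiz_isIso ⟨by apply prod.hom_ext <;> simp [Limits.diag]⟩
  refine ⟨X, q, hsepX, inferInstance, ‹_›, ‹_›, ‹_›, IsPullback.of_map (yon _) ?_ ?_,
    fun hfl => ?_, fun hqc => ?_, fun hsm => ?_⟩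
  · refine (yon _).map_injective ?_
    rw [Functor.map_comp, Functor.map_comp _ (snd H G) q, hq, ← Category.assoc, hpb.w, Category.assoc]
  · exact IsPullback.of_iso hpb (Iso.refl _) (Iso.refl _) (Iso.refl _) e.symm (by simp) (by simp)
      (by simp [hq]) (by simp [hq])
  · haveI : Flat (q.left ≫ X.hom) := by rw [Over.w q]; exact hfl
    exact FlatDescStalk.flat_of_comp q.left X.hom
  · haveI : CompactSpace ↥G.left := QuasiCompact.compactSpace_of_compactSpace G.hom
    haveI : CompactSpace ↥X.left := q.left.surjective.compactSpace q.left.continuous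
    exact (quasiCompact_iff_compactSpace (f := X.hom)).mpr inferInstance
  · haveI : Smooth (q.left ≫ X.hom) := by rw [Over.w q]; exact hsm
    exact FppfSrc.smooth_of_precomp_fppf q.left X.hom

end Groth.Agent.ArtGrpLib
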