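import Groth.Agent.ArtGrpLib.ThickQuot
import Groth.Agent.ArtGrpLib.CosetScheme
import Groth.Agent.Thicken.Affine
import Groth.Prelude.Def_MoreMor
/-!
A flat equivalence relation has a quotient scheme if it has one modulo a nilpotent saturated ideal.
-/

set_option autoImplicit false
set_option backward.isDefEq.respectTransparency false
set_option backward.isDefEq.respectTransparency.types false
set_option linter.style.haveILetI false

universe u

open CategoryTheory CategoryTheory.Limits AlgebraicGeometry MonoidalCategory CartesianMonoidalCategory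

noncomputable section

namespace Groth.Agent.ArtGrpLib

open _root_.AlgSp Groth.Agent.ASp

/-- The kernel of a restriction of a nilpotent thickening is nilpotent. -/
theorem isNilpotent_ker_restrict {U₀ U : Scheme.{u}} (c : U₀ ⟶ U) [IsClosedImmersion c] (hc : IsNilpotent c.ker)
    {W : U.Opens} (hW : IsAffineOpen W) : IsNilpotent (RingHom.ker (c ∣_ W).appTop.hom) := by
  obtain ⟨N, hN⟩ := hc
  refine ⟨N, ?_⟩
  have hWt : IsAffineOpen (W.ι ''ᵁ ⊤) := by rwa [Scheme.Opens.ι_image_top]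
  have h := congrArg (fun I : U.IdealSheafData => I.ideal ⟨W.ι ''ᵁ ⊤, hWt⟩) hN
  simp only [Scheme.IdealSheafData.ideal_pow, Pi.pow_apply, Scheme.Hom.ker_apply] at h
  have he : RingHom.ker (c ∣_ W).appTop.hom = RingHom.ker (c.app (W.ι ''ᵁ ⊤)).hom := by
    rw [morphismRestrict_appTop, CommRingCat.hom_comp]
    ext a
    simp only [RingHom.mem_ker, RingHom.comp_apply]
    exact map_eq_zero_iff _ (ConcreteCategory.bijective_of_isIso
      (C := CommRingCat) (U₀.presheaf.map _)).injective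
  rw [he]
  exact h.trans (by simp)

variable {S : Scheme.{u}}

/-- The relation of a groupoid scheme with monomorphic `j`. -/
theorem isEqvRel_of_mono (G : Grpd.GroupoidScheme S) [Mono G.j] :
    IsEqvRel (Over.homMk G.s G.s_over : Over.mk G.pR ⟶ Over.mk G.pU)
      (Over.homMk G.t G.t_over : Over.mk G.pR ⟶ Over.mk G.pU) where
  injective T r r' ht hs := by
    refine Over.OverMorphism.ext ((cancel_mono G.j).1 (pullback.hom_ext ?_ ?_))
    · simpa [Grpd.GroupoidScheme.j] using congrArg CommaMorphism.left ht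
    · simpa [Grpd.GroupoidScheme.j] using congrArg CommaMorphism.left hs
  equivalence T := by
    have hi : G.i ≫ G.pR = G.pR := by
      conv_lhs => rw [← G.t_over]
      rw [← Category.assoc, G.i_t, G.s_over]
    have hcomp : ∀ {Z : Scheme.{u}} (α β : Z ⟶ G.R) (h : α ≫ G.s = β ≫ G.t),
        (pullback.lift α β h ≫ G.c) ≫ G.pR = α ≫ G.pR := fun α β h => by
      rw [← G.t_over, ← Category.assoc, G.comp_t, Category.assoc]
    refine ⟨fun a => ⟨Over.homMk (a.left ≫ G.e) ?_, ?_, ?_⟩, fun {a b} ⟨r, h1, h2⟩ =>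
      ⟨Over.homMk (r.left ≫ G.i) ?_, ?_, ?_⟩, fun {a b c} ⟨r, h1, h2⟩ ⟨r', h1', h2'⟩ =>
      ⟨Over.homMk (pullback.lift r.left r'.left ?_ ≫ G.c) ?_, ?_, ?_⟩⟩
    · show (a.left ≫ G.e) ≫ G.pR = T.hom
      rw [← G.s_over, Category.assoc, reassoc_of% G.e_s]
      exact Over.w a
    · exact Over.OverMorphism.ext (by simp [G.e_t])
    · exact Over.OverMorphism.ext (by simp [G.e_s])
    · show (r.left ≫ G.i) ≫ G.pR = T.hom
      rw [Category.assoc, hi]
      exact Over.w r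
    · exact Over.OverMorphism.ext (by simpa [G.i_t] using congrArg CommaMorphism.left h2)
    · exact Over.OverMorphism.ext (by simpa [G.i_s] using congrArg CommaMorphism.left h1)
    · exact (congrArg CommaMorphism.left h2).trans (congrArg CommaMorphism.left h1').symm
    · show (pullback.lift r.left r'.left _ ≫ G.c) ≫ G.pR = T.hom
      rw [hcomp]
      exact Over.w r
    · exact Over.OverMorphism.ext ((G.comp_t _ _ _).trans (congrArg CommaMorphism.left h1))
    · exact Over.OverMorphism.ext ((G.comp_s _ _ _).trans (congrArg CommaMorphism.left h2'))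

set_option maxHeartbeats 1600000 in
/-- The affine piece of the quotient over an affine open of the quotient of the thickened relation. -/
theorem exists_affine_piece {A : Type u} [CommRing A] {U R : Over (Spec (CommRingCat.of A))} {t s : R ⟶ U}
    {F : Sp (Spec (CommRingCat.of A))} (p : (yon _).obj U ⟶ F)
    (hpb : IsPullback ((yon _).map t) ((yon _).map s) p p) (hpf : RepWith @Flat p)
    (hpl : RepWith @LocallyOfFinitePresentation p) {U₀ R₀ Y₀ : Scheme.{u}} (c : U₀ ⟶ U.left)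
    [IsClosedImmersion c] [Surjective c] (hc : IsNilpotent c.ker) (ρ : R₀ ⟶ R.left) (t₀ s₀ : R₀ ⟶ U₀)
    (hs₀ : IsPullback ρ s₀ s.left c) (ht₀ : IsPullback ρ t₀ t.left c) (p₀ : U₀ ⟶ Y₀) [Flat p₀]
    [LocallyOfFinitePresentation p₀] (hp₀ : IsPullback t₀ s₀ p₀ p₀) (u₀ : U₀) :
    ∃ (M : Over (Spec (CommRingCat.of A))) (j : (yon _).obj M ⟶ F), RepWith @IsOpenImmersion j ∧
      Points.ofPt p (c u₀) ∈ Set.range (Points.map j) := by
  let hom : U₀ ≃ₜ U.left := c.isEmbedding.toHomeomorphOfSurjective c.surjective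
  -- the affine opens
  obtain ⟨V₀, hV₀, huV₀, -⟩ := exists_isAffineOpen_mem_and_subset (X := Y₀) (x := p₀ u₀) (U := ⊤) trivial
  obtain ⟨U₁, hU₁, huU₁, hU₁V⟩ := exists_isAffineOpen_mem_and_subset (X := U.left) (x := c u₀)
    (U := ⟨c '' (p₀ ⁻¹' V₀), hom.isOpenMap _ (V₀.2.preimage p₀.continuous)⟩) ⟨u₀, huV₀, rfl⟩
  haveI : IsAffine (U₁ : Scheme) := hU₁
  haveI : IsAffine ((c ⁻¹ᵁ U₁ : U₀.Opens) : Scheme) := hU₁.preimage c
  have hsub : ∀ u ∈ c ⁻¹ᵁ U₁, p₀ u ∈ V₀ := fun u hu => by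
    obtain ⟨u', hu', e⟩ := hU₁V hu
    rwa [← c.isEmbedding.injective e]
  obtain ⟨V₁, hV₁, huV₁, hV₁sub⟩ := exists_isAffineOpen_mem_and_subset (X := Y₀) (x := p₀ u₀)
    (U := ⟨p₀ '' (c ⁻¹ᵁ U₁ : Set U₀), p₀.isOpenMap _ (c ⁻¹ᵁ U₁).2⟩) ⟨u₀, huU₁, rfl⟩
  let Wo : U.left.Opens := ⟨c '' ((c ⁻¹ᵁ U₁ : Set U₀) ∩ p₀ ⁻¹' V₁),
    hom.isOpenMap _ ((c ⁻¹ᵁ U₁).2.inter (V₁.2.preimage p₀.continuous))⟩
  have hWo : ∀ u, u ∈ c ⁻¹ᵁ Wo ↔ c u ∈ U₁ ∧ p₀ u ∈ V₁ := fun u => by
    refine ⟨fun hh => ?_, fun h => ⟨u, h, rfl⟩⟩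
    obtain ⟨u', hu', e⟩ : c u ∈ c '' ((c ⁻¹ᵁ U₁ : Set U₀) ∩ p₀ ⁻¹' V₁) := hh
    obtain rfl := c.isEmbedding.injective e
    exact hu'
  haveI : IsAffine (V₀ : Scheme) := hV₀
  haveI : IsAffine (V₁ : Scheme) := hV₁
  -- the preimage is affine
  have hW₀ : IsAffineOpen (c ⁻¹ᵁ Wo) := by
    let m : ((c ⁻¹ᵁ U₁ : U₀.Opens) : Scheme) ⟶ V₀ := IsOpenImmersion.lift V₀.ι ((c ⁻¹ᵁ U₁).ι ≫ p₀) (by
      rw [Scheme.Opens.range_ι]
      rintro _ ⟨u, rfl⟩
      exact hsub _ u.2)
    have hV₁₀ : V₁ ≤ V₀ := fun v hv => by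
      obtain ⟨u, hu, rfl⟩ := hV₁sub hv
      exact hsub u hu
    have hO : IsAffineOpen (V₀.ι ⁻¹ᵁ V₁) :=
      hV₁.preimage_of_isOpenImmersion V₀.ι (by rw [Scheme.Opens.opensRange_ι]; exact hV₁₀)
    have h := (hO.preimage m).image_of_isOpenImmersion (c ⁻¹ᵁ U₁).ι
    have : (c ⁻¹ᵁ U₁).ι ''ᵁ (m ⁻¹ᵁ V₀.ι ⁻¹ᵁ V₁) = c ⁻¹ᵁ Wo := by
      ext u
      simp only [SetLike.mem_coe, hWo]
      constructor
      · rintro ⟨z, hz, rfl⟩
        refine ⟨z.2, ?_⟩
        have e : (m ≫ V₀.ι) z = ((c ⁻¹ᵁ U₁).ι ≫ p₀) z := by rw [IsOpenImmersion.lift_fac]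
        exact (congrArg (· ∈ V₁) e).mp hz
      · rintro ⟨h1, h2⟩
        refine ⟨⟨u, h1⟩, ?_, rfl⟩
        have e : (m ≫ V₀.ι) ⟨u, h1⟩ = ((c ⁻¹ᵁ U₁).ι ≫ p₀) ⟨u, h1⟩ := by rw [IsOpenImmersion.lift_fac]
        exact (congrArg (· ∈ V₁) e).mpr h2
    rwa [this] at h
  haveI : IsAffine ((c ⁻¹ᵁ Wo : U₀.Opens) : Scheme) := hW₀
  let i := c ∣_ Wo
  have hsqi := isPullback_morphismRestrict c Wo
  haveI : Surjective i := IsZariskiLocalAtTarget.restrict ‹Surjective c› Wo
  haveI : IsClosedImmersion i := IsZariskiLocalAtTarget.restrict ‹IsClosedImmersion c› Wo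
  haveI : IsAffine (Wo : Scheme) := Thicken.isAffine i i.surjective
  have hWa : IsAffineOpen Wo := ‹_›
  let W : Over (Spec (CommRingCat.of A)) := Over.mk (Wo.ι ≫ U.hom)
  let φ : W ⟶ U := Over.homMk Wo.ι rfl
  haveI : IsOpenImmersion φ.left := inferInstanceAs (IsOpenImmersion Wo.ι)
  haveI : IsAffine W.left := inferInstanceAs (IsAffine (Wo : Scheme))
  have hmφ : Mono φ := Over.mono_of_mono_left φ
  -- the restricted relation
  let P₁ := pullback φ t
  let j₁ : P₁ ⟶ R := pullback.snd φ t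
  let Rc := pullback φ (j₁ ≫ s)
  let j₂ : Rc ⟶ P₁ := pullback.snd φ (j₁ ≫ s)
  let tc : Rc ⟶ W := j₂ ≫ pullback.fst φ t
  let sc : Rc ⟶ W := pullback.fst φ (j₁ ≫ s)
  let jc : Rc ⟶ R := j₂ ≫ j₁
  have htc : tc ≫ φ = jc ≫ t := by simp [tc, jc, j₁, pullback.condition]
  have hsc : sc ≫ φ = jc ≫ s := by simp [sc, jc, j₂, pullback.condition]
  let a := (yon _).map φ ≫ p
  have sq : IsPullback ((yon _).map tc) ((yon _).map sc) a a := by
    have h1 := (isPullback_yon_map (IsPullback.of_hasPullback φ t)).paste_vert hpb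
    have h2 := (isPullback_yon_map (IsPullback.of_hasPullback φ (j₁ ≫ s))).paste_vert
      (show IsPullback ((yon _).map (j₁ ≫ s)) ((yon _).map (pullback.fst φ t)) p a by
        rw [Functor.map_comp]; exact h1.flip)
    simpa only [tc, sc, Functor.map_comp] using h2.flip
  have hlift : ∀ {T : Scheme.{u}} (x y : T ⟶ Wo) (r : T ⟶ R.left), r ≫ t.left = x ≫ Wo.ι →
      r ≫ s.left = y ≫ Wo.ι → ∃ z : T ⟶ Rc.left, z ≫ tc.left = x ∧ z ≫ sc.left = y ∧ z ≫ jc.left = r := by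
    intro T x y r h1 h2
    obtain ⟨z₁, hz₁, hz₁'⟩ := (GrpQuotLib.isPullback_left (IsPullback.of_hasPullback φ t)).exists_lift x r h1.symm
    obtain ⟨z, hz, hz'⟩ := (GrpQuotLib.isPullback_left (IsPullback.of_hasPullback φ (j₁ ≫ s))).exists_lift y z₁ (by
      rw [Over.comp_left, reassoc_of% hz₁']; exact h2.symm)
    refine ⟨z, ?_, hz, ?_⟩
    · show z ≫ (j₂ ≫ pullback.fst φ t).left = x
      rw [Over.comp_left, ← Category.assoc, hz', hz₁]
    · show z ≫ (j₂ ≫ j₁).left = r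
      rw [Over.comp_left, ← Category.assoc, hz', hz₁']
  have hext : ∀ {T : Scheme.{u}} (z z' : T ⟶ Rc.left), z ≫ tc.left = z' ≫ tc.left → z ≫ sc.left = z' ≫ sc.left →
      z = z' := by
    intro T z z' h1 h2
    have hh : z' ≫ Rc.hom = z ≫ Rc.hom := by
      rw [← Over.w sc, ← Category.assoc, ← h2, Category.assoc]
    let a₁ : Over.mk (z ≫ Rc.hom) ⟶ Rc := Over.homMk z rfl
    let a₂ : Over.mk (z ≫ Rc.hom) ⟶ Rc := Over.homMk z' hh
    have : a₁ = a₂ := (yon _).map_injective (sq.hom_ext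
      (by rw [← Functor.map_comp, ← Functor.map_comp]; exact congrArg _ (Over.OverMorphism.ext h1))
      (by rw [← Functor.map_comp, ← Functor.map_comp]; exact congrArg _ (Over.OverMorphism.ext h2)))
    exact congrArg CommaMorphism.left this
  -- the reduced relation
  let Rc₀ := pullback sc.left i
  let ρc : Rc₀ ⟶ Rc.left := pullback.fst sc.left i
  let sc₀ : Rc₀ ⟶ (c ⁻¹ᵁ Wo : U₀.Opens) := pullback.snd sc.left i
  have hsc' : sc.left ≫ Wo.ι = jc.left ≫ s.left := congrArg CommaMorphism.left hsc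
  have htc' : tc.left ≫ Wo.ι = jc.left ≫ t.left := congrArg CommaMorphism.left htc
  obtain ⟨tc₀, htc₀⟩ : ∃ tc₀ : Rc₀ ⟶ (c ⁻¹ᵁ Wo : U₀.Opens), tc₀ ≫ i = ρc ≫ tc.left := by
    obtain ⟨l, hl, -⟩ := hs₀.exists_lift (ρc ≫ jc.left) (sc₀ ≫ (c ⁻¹ᵁ Wo).ι) (by
      rw [Category.assoc, ← hsc', Category.assoc, ← morphismRestrict_ι, ← Category.assoc, pullback.condition,
        Category.assoc])
    obtain ⟨x, hx, -⟩ := hsqi.exists_lift (ρc ≫ tc.left) (l ≫ t₀) (by
      rw [Category.assoc, htc', Category.assoc, ← ht₀.w, reassoc_of% hl])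
    exact ⟨x, hx⟩
  haveI : Mono i := inferInstance
  haveI : Mono ρc := inferInstanceAs (Mono (pullback.fst sc.left i))
  have hRt : IsPullback ρc tc₀ tc.left i := by
    have H : ∀ cn : PullbackCone tc.left i, ∃ z : cn.pt ⟶ Rc₀, z ≫ ρc = cn.fst := by
      intro cn
      obtain ⟨l, hl, -⟩ := ht₀.exists_lift (cn.fst ≫ jc.left) (cn.snd ≫ (c ⁻¹ᵁ Wo).ι) (by
        rw [Category.assoc, ← htc', Category.assoc, ← morphismRestrict_ι, ← Category.assoc, cn.condition,
          Category.assoc])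
      obtain ⟨y, hy, -⟩ := hsqi.exists_lift (cn.fst ≫ sc.left) (l ≫ s₀) (by
        rw [Category.assoc, hsc', Category.assoc, ← hs₀.w, reassoc_of% hl])
      exact ⟨pullback.lift cn.fst y hy.symm, pullback.lift_fst _ _ _⟩
    choose l hl using H
    exact IsPullback.of_isLimit' ⟨htc₀.symm⟩ (PullbackCone.IsLimit.mk _ l hl
      (fun cn => by rw [← cancel_mono i, Category.assoc, htc₀, reassoc_of% hl cn, cn.condition])
      (fun cn m h1 _ => by rw [← cancel_mono ρc, h1, hl]))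
  let qW : ((c ⁻¹ᵁ Wo : U₀.Opens) : Scheme) ⟶ V₁ := IsOpenImmersion.lift V₁.ι ((c ⁻¹ᵁ Wo).ι ≫ p₀) (by
    rw [Scheme.Opens.range_ι]
    rintro _ ⟨u, rfl⟩
    exact ((hWo _).1 u.2).2)
  have hqW : qW ≫ V₁.ι = (c ⁻¹ᵁ Wo).ι ≫ p₀ := IsOpenImmersion.lift_fac _ _ _
  haveI : Flat qW := by
    have hsqV : IsPullback (𝟙 _) qW ((c ⁻¹ᵁ Wo).ι ≫ p₀) V₁.ι :=
      IsPullback.of_isLimit' ⟨by rw [Category.id_comp, hqW]⟩ (PullbackCone.IsLimit.mk _ (fun cn => cn.fst)
        (fun cn => Category.comp_id _) (fun cn => by rw [← cancel_mono V₁.ι, Category.assoc, hqW, cn.condition])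
        (fun cn m h1 _ => by simpa using h1))
    exact MorphismProperty.of_isPullback (P := @Flat) hsqV inferInstance
  haveI : Surjective qW := ⟨fun v => by
    obtain ⟨u, hu, e⟩ := hV₁sub v.2
    refine ⟨⟨u, (hWo u).2 ⟨hu, by rw [e]; exact v.2⟩⟩, V₁.ι.isOpenEmbedding.injective ?_⟩
    rw [← Scheme.Hom.comp_apply, hqW]
    exact e⟩
  have hRq : IsPullback tc₀ sc₀ qW qW := by
    have w : tc₀ ≫ qW = sc₀ ≫ qW := by
      obtain ⟨l, hl, hls⟩ := hs₀.exists_lift (ρc ≫ jc.left) (sc₀ ≫ (c ⁻¹ᵁ Wo).ι) (by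
        rw [Category.assoc, ← hsc', Category.assoc, ← morphismRestrict_ι, ← Category.assoc, pullback.condition,
          Category.assoc])
      have hlt : l ≫ t₀ = tc₀ ≫ (c ⁻¹ᵁ Wo).ι := by
        rw [← cancel_mono c, Category.assoc, ← ht₀.w, reassoc_of% hl, Category.assoc, ← morphismRestrict_ι,
          reassoc_of% htc₀, htc']
      rw [← cancel_mono V₁.ι, Category.assoc, Category.assoc, hqW, ← reassoc_of% hlt, ← reassoc_of% hls, hp₀.w]
    have H : ∀ cn : PullbackCone qW qW, ∃ z : cn.pt ⟶ Rc₀, z ≫ tc₀ = cn.fst ∧ z ≫ sc₀ = cn.snd := by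
      intro cn
      obtain ⟨l, hlt, hls⟩ := hp₀.exists_lift (cn.fst ≫ (c ⁻¹ᵁ Wo).ι) (cn.snd ≫ (c ⁻¹ᵁ Wo).ι) (by
        rw [Category.assoc, Category.assoc, ← hqW, reassoc_of% cn.condition])
      obtain ⟨z, hzt, hzs, -⟩ := hlift (cn.fst ≫ i) (cn.snd ≫ i) (l ≫ ρ)
        (by rw [Category.assoc, ht₀.w, reassoc_of% hlt, Category.assoc, morphismRestrict_ι])
        (by rw [Category.assoc, hs₀.w, reassoc_of% hls, Category.assoc, morphismRestrict_ι])
      refine ⟨pullback.lift z cn.snd hzs, ?_, pullback.lift_snd _ _ _⟩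
      rw [← cancel_mono i, Category.assoc, htc₀, ← Category.assoc, pullback.lift_fst, hzt]
    choose l hl₁ hl₂ using H
    exact IsPullback.of_isLimit' ⟨w⟩ (PullbackCone.IsLimit.mk _ l hl₁ hl₂ fun cn m h1 h2 => by
      refine (cancel_mono ρc).1 (hext _ _ ?_ ?_)
      · rw [Category.assoc, Category.assoc, ← htc₀, reassoc_of% h1, reassoc_of% hl₁ cn]
      · rw [Category.assoc, Category.assoc, pullback.condition]
        rw [reassoc_of% h2, reassoc_of% hl₂ cn])
  haveI : IsAffine Rc₀ := IsAffine.of_isIso hRq.isoPullback.hom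
  haveI : IsClosedImmersion ρc := inferInstanceAs (IsClosedImmersion (pullback.fst sc.left i))
  haveI : Surjective ρc := inferInstanceAs (Surjective (pullback.fst sc.left i))
  haveI : IsAffine Rc.left := Thicken.isAffine ρc ρc.surjective
  -- the open subspace
  let O : Set (Points F) := Points.ofPt p '' Wo
  have haf : RepWith @Flat a := repWith_comp (repWith_yon_map (P := @Flat) (g := φ) inferInstance) hpf
  have hal : RepWith @LocallyOfFinitePresentation a :=
    repWith_comp (repWith_yon_map (P := @LocallyOfFinitePresentation) (g := φ) inferInstance) hpl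
  have hO : IsOpen O := by
    have h := isOpenMap_map_of_repWith (P := @Flat ⊓ @LocallyOfFinitePresentation)
      (fun g hg => haveI := hg.1; haveI := hg.2; g.isOpenMap) (f := p)
      ⟨hpf.1, fun {T W} b f s sq => ⟨hpf.2 b f s sq, hpl.2 b f s sq⟩⟩
    have : O = Points.map p '' (Points.schemeHomeo U '' Wo) := by
      rw [Set.image_image]
      exact Set.image_congr fun v _ => Points.ofPt_eq_map_ofScheme p v
    rw [this]
    exact h _ ((Points.schemeHomeo U).isOpenMap _ Wo.2)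
  obtain ⟨a', ha'⟩ := exists_lift_subι F O a fun z => by
    rw [ofPt_yon_map_comp]
    exact ⟨_, z.2, rfl⟩
  have hsqa : IsPullback (𝟙 _) a' a (subι F O) := by
    refine IsPullback.of_isLimit' ⟨by rw [Category.id_comp, ha']⟩ (PullbackCone.IsLimit.mk _ (fun c => c.fst)
      (fun c => Category.comp_id _) (fun c => ?_) (fun c m h1 _ => by simpa using h1))
    rw [← cancel_mono (subι F O), Category.assoc, ha', c.condition]
  have haf' : RepWith @Flat a' := repWith_of_isPullback hsqa haf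
  have hal' : RepWith @LocallyOfFinitePresentation a' := repWith_of_isPullback hsqa hal
  have has' : RepWith @Surjective a' := by
    rw [repWith_surjective_iff haf'.1]
    intro y
    obtain ⟨w, hw, hwy⟩ := (range_map_subι F O).le ⟨y, rfl⟩
    refine ⟨Points.schemeHomeo W ⟨w, hw⟩, injective_map_of_repWith (P := @IsOpenImmersion)
      (fun g hg => haveI : IsOpenImmersion g := hg; g.isOpenEmbedding.injective) (repWith_subι F O hO) ?_⟩
    rw [← hwy, ← Points.map_comp, ha', Points.map_comp, Points.map_yon_map_apply, Points.ofPt_eq_map_ofScheme]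
    rfl
  have sq' : IsPullback ((yon _).map tc) ((yon _).map sc) a' a' := by
    refine IsPullback.of_isLimit' ⟨by rw [← cancel_mono (subι F O), Category.assoc, Category.assoc, ha', sq.w]⟩
      (PullbackCone.IsLimit.mk _ (fun c => sq.lift c.fst c.snd (by rw [← ha', reassoc_of% c.condition]))
        (fun c => sq.lift_fst _ _ _) (fun c => sq.lift_snd _ _ _) (fun c m h1 h2 => sq.hom_ext
          (h1.trans (sq.lift_fst _ _ _).symm) (h2.trans (sq.lift_snd _ _ _).symm)))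
  obtain ⟨M, -, ⟨e⟩⟩ := exists_affine_of_thickened_chart a' sq' haf' hal' has' i
    (isNilpotent_ker_restrict c hc hWa) ρc sc₀ tc₀ qW (IsPullback.of_hasPullback _ _) hRt hRq.flip
  refine ⟨M, e.hom ≫ subι F O, repWith_comp (repWith_of_isIso _) (repWith_subι F O hO), ?_⟩
  obtain ⟨w, hw⟩ := (range_map_subι F O).ge
    (show Points.ofPt p (c u₀) ∈ O from ⟨c u₀, ⟨u₀, ⟨huU₁, huV₁⟩, rfl⟩, rfl⟩)
  exact ⟨Points.map e.inv w, by rw [← Points.map_comp, e.inv_hom_id_assoc, hw]⟩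

/-- A flat equivalence relation which has a quotient scheme modulo a nilpotent ideal has one. -/
theorem exists_quotient_of_thickening {A : Type u} [CommRing A] {U R : Over (Spec (CommRingCat.of A))}
    {t s : R ⟶ U} (h : IsEqvRel s t) [Flat t.left] [LocallyOfFinitePresentation t.left]
    {U₀ R₀ Y₀ : Scheme.{u}} (c : U₀ ⟶ U.left) [IsClosedImmersion c] [Surjective c] (hc : IsNilpotent c.ker)
    (ρ : R₀ ⟶ R.left) (t₀ s₀ : R₀ ⟶ U₀) (hs₀ : IsPullback ρ s₀ s.left c) (ht₀ : IsPullback ρ t₀ t.left c)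
    (p₀ : U₀ ⟶ Y₀) [Flat p₀] [LocallyOfFinitePresentation p₀] (hp₀ : IsPullback t₀ s₀ p₀ p₀) :
    ∃ (Y : Over (Spec (CommRingCat.of A))) (q : U ⟶ Y), Surjective q.left ∧ Flat q.left ∧
      LocallyOfFinitePresentation q.left ∧ IsPullback t s q q := by
  obtain ⟨p, -, hpb, hchart, -, hepi⟩ := exists_flat_presentation h
  haveI : Sheaf.IsLocallySurjective p := (Sheaf.isLocallySurjective_iff_epi _).2 hepi
  obtain ⟨hpf, hpl, hps⟩ := repWith_flat_surjective_of_kernelPair p hpb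
  have hF := isAlgSpace_of_fppfChart (IsAlgSpace.yon_obj U) hchart
  choose M j hj hjx using exists_affine_piece p hpb hpf hpl c hc ρ t₀ s₀ hs₀ ht₀ p₀ hp₀
  obtain ⟨X, ⟨e⟩⟩ := exists_scheme_of_openCover hF M j hj fun z => by
    obtain ⟨y, rfl⟩ := surjective_ofPt hps z
    obtain ⟨u₀, rfl⟩ := c.surjective y
    exact ⟨u₀, hjx u₀⟩
  let q : U ⟶ X := (yon _).preimage (p ≫ e.inv)
  have hq : (yon _).map q = p ≫ e.inv := (yon _).map_preimage _
  have hsq : IsPullback (𝟙 _) ((yon _).map q) p e.hom := IsPullback.of_horiz_isIso ⟨by simp [hq]⟩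
  have hmul : ∀ {Q : MorphismProperty Scheme.{u}} [Q.IsStableUnderBaseChange],
      RepWith Q p → Q q.left := fun {Q} _ hQ =>
    (repWith_yon_map_iff Q q).1 (repWith_of_isPullback hsq hQ)
  refine ⟨X, q, hmul hps, hmul hpf, hmul hpl, IsPullback.of_map (yon _) ?_ ?_⟩
  · refine (yon _).map_injective ?_
    rw [Functor.map_comp, Functor.map_comp _ s q, hq, ← Category.assoc, hpb.w, Category.assoc]
  · exact IsPullback.of_iso hpb (Iso.refl _) (Iso.refl _) (Iso.refl _) e.symm (by simp) (by simp)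
      (by simp [hq]) (by simp [hq])

end Groth.Agent.ArtGrpLib
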